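/-
Products of two conjugates of a regular diagonal matrix in GL₂.

* `exists_conj_of_tr_det`: non-scalar matrices with equal trace and determinant are conjugate;
* `exists_conj_lower`, `exists_conj_upper`: unitriangular times diagonal is conjugate to the diagonal;
* `exists_two_diag`: every matrix of determinant `(a b)²` is a product of two conjugates of `diag(a,b)`,
  provided `b = -a` or `2 = 0`.
-/
import Cfsg.Agent.EqLemmas
import Cfsg.Agent.Lib.GLOrder.ThompsonPSpFour

set_option autoImplicit false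

open Matrix

namespace Cfsg.Agent.G2Thompson

open Cfsg.Agent.GLOrder.PSpFour

variable {F : Type*} [Field F]

/-- A nonzero entry off the scalar matrices. -/
def NonScalar (A : Matrix (Fin 2) (Fin 2) F) : Prop := A 1 0 ≠ 0 ∨ A 0 1 ≠ 0 ∨ A 0 0 ≠ A 1 1

/-- The diagonal element with entries `a`, `b`. -/
def dgl (a b : Fˣ) : GL (Fin 2) F where
  val := !![(a : F), 0; 0, b]
  inv := !![((a⁻¹ : Fˣ) : F), 0; 0, ((b⁻¹ : Fˣ) : F)]
  val_inv := by ext i j; fin_cases i <;> fin_cases j <;> simp [Matrix.mul_apply, Fin.sum_univ_two]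
  inv_val := by ext i j; fin_cases i <;> fin_cases j <;> simp [Matrix.mul_apply, Fin.sum_univ_two]

theorem exists_conj_of_tr_det {A B : GL (Fin 2) F} (hA : NonScalar (A : Matrix (Fin 2) (Fin 2) F))
    (hB : NonScalar (B : Matrix (Fin 2) (Fin 2) F)) (ht : (A : Matrix (Fin 2) (Fin 2) F).trace = (B : Matrix (Fin 2) (Fin 2) F).trace)
    (hd : (A : Matrix (Fin 2) (Fin 2) F).det = (B : Matrix (Fin 2) (Fin 2) F).det) :
    ∃ P : GL (Fin 2) F, A = P * B * P⁻¹ := by
  obtain ⟨P, hP⟩ := gl2_conj_nonscalar hA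
  obtain ⟨Q, hQ⟩ := gl2_conj_nonscalar hB
  rw [ht, hd] at hP
  refine ⟨P * Q⁻¹, ?_⟩
  have e : A * P = P * (Q⁻¹ * B * Q) := by
    apply Units.ext
    simp only [Units.val_mul]
    rw [hP, mul_assoc (Q⁻¹).1, hQ, ← mul_assoc (Q⁻¹).1, Units.inv_mul, one_mul]
  calc A = A * P * P⁻¹ := by group
    _ = _ := by rw [e]; group

/-- The swap. -/
def swapGL : GL (Fin 2) F where
  val := !![0, 1; 1, 0]
  inv := !![0, 1; 1, 0]
  val_inv := by ext i j; fin_cases i <;> fin_cases j <;> simp [Matrix.mul_apply, Fin.sum_univ_two]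
  inv_val := by ext i j; fin_cases i <;> fin_cases j <;> simp [Matrix.mul_apply, Fin.sum_univ_two]

theorem swap_conj (a b : Fˣ) : swapGL * dgl a b * swapGL⁻¹ = dgl b a := by
  apply Units.ext
  show !![0, 1; 1, 0] * !![(a : F), 0; 0, b] * !![0, 1; 1, 0] = !![(b : F), 0; 0, a]
  ext i j; fin_cases i <;> fin_cases j <;> simp [Matrix.mul_apply, Fin.sum_univ_two]

theorem trace_swap_det (a b : Fˣ) :
    ((dgl a b : GL (Fin 2) F) : Matrix (Fin 2) (Fin 2) F).trace = a + b ∧
      ((dgl a b : GL (Fin 2) F) : Matrix (Fin 2) (Fin 2) F).det = a * b := by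
  simp [dgl, Matrix.trace_fin_two, Matrix.det_fin_two]

theorem exists_two_diag {a b : Fˣ} (hab : a ≠ b) (h : (b : F) = -a ∨ (2 : F) = 0) {M : GL (Fin 2) F}
    (hM : (M : Matrix (Fin 2) (Fin 2) F).det = ((a : F) * b) ^ 2) :
    ∃ P Q : GL (Fin 2) F, M = (P * dgl a b * P⁻¹) * (Q * dgl a b * Q⁻¹) := by
  have hab' : (a : F) ≠ b := fun e => hab (Units.ext e)
  by_cases hns : NonScalar (M : Matrix (Fin 2) (Fin 2) F)
  · set t := (M : Matrix (Fin 2) (Fin 2) F).trace
    set y : F := (t - a * a - b * b) / (a * a) with hy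
    let X : GL (Fin 2) F := GeneralLinearGroup.mkOfDetNeZero !![(a : F), 0; a, b] (by simp [Matrix.det_fin_two])
    let Y : GL (Fin 2) F := GeneralLinearGroup.mkOfDetNeZero !![(a : F), a * y; 0, b] (by simp [Matrix.det_fin_two])
    have hX : ∃ P, X = P * dgl a b * P⁻¹ := exists_conj_of_tr_det (Or.inl (by simp [X]))
      (Or.inr (Or.inr (by simpa [dgl] using hab')))
      (by simp [X, dgl, Matrix.trace_fin_two]) (by simp [X, dgl, Matrix.det_fin_two])
    have hY : ∃ P, Y = P * dgl a b * P⁻¹ := exists_conj_of_tr_det (Or.inr (Or.inr (by simpa [Y] using hab')))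
      (Or.inr (Or.inr (by simpa [dgl] using hab')))
      (by simp [Y, dgl, Matrix.trace_fin_two]) (by simp [Y, dgl, Matrix.det_fin_two])
    obtain ⟨P, hP⟩ := hX
    obtain ⟨Q, hQ⟩ := hY
    obtain ⟨R, hR⟩ : ∃ R, M = R * (X * Y) * R⁻¹ := by
      refine exists_conj_of_tr_det hns (Or.inl (by simp [X, Y, Matrix.mul_apply, Fin.sum_univ_two])) ?_ ?_
      · show t = _
        simp [X, Y, Matrix.trace_fin_two, Matrix.mul_apply, Fin.sum_univ_two, hy]
        field_simp
        ring
      · rw [hM, Units.val_mul, Matrix.det_mul]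
        simp [X, Y, Matrix.det_fin_two]
        ring
    exact ⟨R * P, R * Q, by rw [hR, hP, hQ]; group⟩
  · simp only [NonScalar, not_or, not_not] at hns
    obtain ⟨h10, h01, h00⟩ := hns
    have hc : ((M : Matrix (Fin 2) (Fin 2) F) 1 1) ^ 2 = ((a : F) * b) ^ 2 := by
      rw [← hM, Matrix.det_fin_two, h10, h01, h00]; ring
    have key : ∀ x y : Fˣ, (x : F) * a = (M : Matrix (Fin 2) (Fin 2) F) 1 1 →
        (y : F) * b = (M : Matrix (Fin 2) (Fin 2) F) 1 1 → M = dgl x y * dgl a b := fun x y hx hy => by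
      apply Units.ext
      ext i j
      fin_cases i <;> fin_cases j <;>
        simp [dgl, Matrix.mul_apply, Fin.sum_univ_two, h10, h01, h00, hx, hy]
    rcases eq_or_eq_neg_of_sq_eq_sq _ _ hc with e | e
    · exact ⟨swapGL, 1, by rw [swap_conj, key b a (by rw [e]; ring) (by rw [e])]; group⟩
    · rcases h with h | h
      · refine ⟨1, 1, ?_⟩
        rw [key a b (by rw [e, h]; ring) (by rw [e, h]; ring)]
        group
      · have e' : (M : Matrix (Fin 2) (Fin 2) F) 1 1 = (a : F) * b := by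
          rw [e]; linear_combination (-((a : F) * b)) * h
        exact ⟨swapGL, 1, by rw [swap_conj, key b a (by rw [e']; ring) (by rw [e'])]; group⟩

end Cfsg.Agent.G2Thompson
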