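/-
The Levi subgroup GL₂ of the maximal parabolic of G₂ of the highest root.

* `psi`: the homomorphism GL₂ → GL of the adjoint module, onto the Levi subgroup of the short fundamental root;
* `psi_col`: it multiplies the highest root vector by the determinant;
* `psi_dgl`: diagonal matrices go to the torus; `nTop`: the element n₁₁(1).
-/
import Cfsg.Agent.EqLemmas
import Cfsg.Agent.Lib.G2Thompson.GL2
import Cfsg.Agent.Lib.G2Invol.Centralizer
import Cfsg.Agent.Lib.ChevBlocks.Blocks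

set_option autoImplicit false
set_option linter.unusedSectionVars false

namespace Cfsg.Agent.G2Thompson

open Cfsg.Lie Cfsg.Lie.ChevalleyDatum Cfsg.Agent.Chev Cfsg.Agent.ChevBN Cfsg.Agent.ChevInvolOdd
  Cfsg.Agent.Chev.RankOne Cfsg.Agent.ChevOrder Cfsg.Agent.G2Invol Matrix
open scoped MatrixGroups

variable {F : Type*} [Field F]

theorem simple_zero : chevG2.simple 0 = 7 := by decide +kernel

theorem simple_one : chevG2.simple 1 = 6 := by decide +kernel

theorem neg_seven : chevG2.neg 7 = 4 := by decide +kernel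

/-- A torus element by its two coordinates. -/
def tor (a b : Fˣ) : GL chevG2.Idx F := torusHom chevG2 F fun i => if i.val = 0 then a else b

theorem tor_mul (a b c d : Fˣ) : tor a b * tor c d = tor (a * c) (b * d) := by
  rw [tor, tor, ← map_mul, tor]
  congr 1
  funext i
  simp only [Pi.mul_apply]
  split <;> rfl

theorem tor_one : tor (1 : Fˣ) 1 = (1 : GL chevG2.Idx F) := by
  rw [tor, ← map_one (torusHom chevG2 F)]
  congr 1
  funext i
  simp

theorem tor_mem (a b : Fˣ) : tor a b ∈ chevG2.diagonalSubgroup F := by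
  rw [← torusHom_range goodG]; exact ⟨_, rfl⟩

theorem exists_tor {h : GL chevG2.Idx F} (hh : h ∈ chevG2.diagonalSubgroup F) : ∃ a b : Fˣ, h = tor a b := by
  rw [← torusHom_range goodG] at hh
  obtain ⟨c, rfl⟩ := hh
  refine ⟨c ⟨0, by rw [rank_G2]; omega⟩, c ⟨1, by rw [rank_G2]; omega⟩, ?_⟩
  rw [tor]
  congr 1
  funext i
  have hi : i.val < 2 := i.isLt.trans_le rank_G2.le
  split
  · next h => congr 1; exact Fin.ext h
  · next h => congr 1; exact Fin.ext (by show i.val = 1; omega)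

theorem hg_seven (a : Fˣ) : hg goodG F 7 (a : F) = tor a 1 := by
  have h := ChevBlocks.hg_eq_torus goodG rootsG2 (⟨0, by rw [rank_G2]; omega⟩ : Fin chevG2.rank) a.ne_zero
  rw [show chevG2.simple (⟨0, by rw [rank_G2]; omega⟩ : Fin chevG2.rank).val = 7 from simple_zero] at h
  rw [h, tor]
  congr 1
  funext i
  by_cases hi : i.val = 0
  · rw [if_pos hi, show i = ⟨0, by rw [rank_G2]; omega⟩ from Fin.ext hi, Pi.mulSingle_eq_same, Units.mk0_val]
  · rw [if_neg hi, Pi.mulSingle_eq_of_ne (fun e => hi (congrArg Fin.val e))]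

theorem hg_six (b : Fˣ) : hg goodG F 6 (b : F) = tor 1 b := by
  have h := ChevBlocks.hg_eq_torus goodG rootsG2 (⟨1, by rw [rank_G2]; omega⟩ : Fin chevG2.rank) b.ne_zero
  rw [show chevG2.simple (⟨1, by rw [rank_G2]; omega⟩ : Fin chevG2.rank).val = 6 from simple_one] at h
  rw [h, tor]
  congr 1
  funext i
  have hi2 : i.val < 2 := i.isLt.trans_le rank_G2.le
  by_cases hi : i.val = 0
  · rw [if_pos hi, Pi.mulSingle_eq_of_ne (fun e => by rw [e] at hi; exact absurd hi (by norm_num))]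
  · rw [if_neg hi, show i = ⟨1, by rw [rank_G2]; omega⟩ from Fin.ext (by show i.val = 1; omega),
      Pi.mulSingle_eq_same, Units.mk0_val]

/-- The SL₂ of the short fundamental root. -/
noncomputable def phiA : SL(2, F) →* GL chevG2.Idx F := rA F

theorem phiA_X (t : F) : phiA (slX t) = xg goodG F 7 t := sl2Hom_slX goodG (lt12 (by norm_num)) t

theorem phiA_Y (t : F) : phiA (slY t) = xg goodG F 4 t := by
  rw [phiA, rA, sl2Hom_slY, neg_seven]

theorem phiA_diag (a : Fˣ) (g : SL(2, F)) (h : g.1 = !![(a : F), 0; 0, ((a⁻¹ : Fˣ) : F)]) :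
    phiA g = tor a 1 := by
  rw [phiA, rA, ← hg_seven]
  simp [sl2Hom, phi, phiE, h, xg_zero]

/-- The determinant of an element of GL₂. -/
def gdet (M : GL (Fin 2) F) : Fˣ := GeneralLinearGroup.det M

theorem coe_gdet (M : GL (Fin 2) F) : (gdet M : F) = (M : Matrix (Fin 2) (Fin 2) F).det := rfl

theorem gdet_mul (M N : GL (Fin 2) F) : gdet (M * N) = gdet M * gdet N := map_mul _ _ _

theorem gdet_dgl (a b : Fˣ) : gdet (dgl a b) = a * b := by
  apply Units.ext
  rw [coe_gdet, (trace_swap_det a b).2, Units.val_mul]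

/-- `M diag(1, det M)⁻¹`. -/
noncomputable def slPart (M : GL (Fin 2) F) : SL(2, F) :=
  ⟨((M * (dgl 1 (gdet M))⁻¹ : GL (Fin 2) F) : Matrix (Fin 2) (Fin 2) F), by
    have hd : gdet (dgl (1 : Fˣ) (gdet M)) = gdet M := by rw [gdet_dgl, one_mul]
    have e : gdet (M * (dgl 1 (gdet M))⁻¹) = 1 := by
      rw [← mul_left_inj (gdet (dgl (1 : Fˣ) (gdet M))), one_mul, ← gdet_mul, inv_mul_cancel_right, hd]
    rw [← coe_gdet, e, Units.val_one]⟩

theorem sl_mul_apply (A B : SL(2, F)) (i j : Fin 2) :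
    (A * B).1 i j = A.1 i 0 * B.1 0 j + A.1 i 1 * B.1 1 j := by
  rw [Matrix.SpecialLinearGroup.coe_mul, Matrix.mul_apply, Fin.sum_univ_two]

/-- Conjugation of SL₂ by `diag(1, d)`. -/
noncomputable def twistSL (d : Fˣ) : SL(2, F) →* SL(2, F) where
  toFun S := ⟨((dgl 1 d : GL (Fin 2) F) : Matrix (Fin 2) (Fin 2) F) * S.1 * (((dgl 1 d)⁻¹ : GL (Fin 2) F) : Matrix (Fin 2) (Fin 2) F), by
    rw [Matrix.det_mul, Matrix.det_mul, S.2, mul_one, ← Matrix.det_mul, Units.mul_inv, Matrix.det_one]⟩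
  map_one' := Subtype.ext (by simp)
  map_mul' S T := Subtype.ext (by
    show ((dgl 1 d : GL (Fin 2) F) : Matrix (Fin 2) (Fin 2) F) * (S.1 * T.1) * _ =
      (_ * S.1 * _) * (_ * T.1 * _)
    generalize hD : ((dgl 1 d : GL (Fin 2) F) : Matrix (Fin 2) (Fin 2) F) = D
    generalize hE : (((dgl 1 d)⁻¹ : GL (Fin 2) F) : Matrix (Fin 2) (Fin 2) F) = E
    have h : E * D = 1 := by rw [← hD, ← hE, Units.inv_mul]
    simp only [Matrix.mul_assoc]
    rw [← Matrix.mul_assoc E D, h, Matrix.one_mul])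

theorem twist_X (d : Fˣ) (t : F) : twistSL d (slX t) = slX (((d⁻¹ : Fˣ) : F) * t) := by
  apply Subtype.ext
  show !![((1 : Fˣ) : F), 0; 0, d] * _ * !![(((1 : Fˣ)⁻¹ : Fˣ) : F), 0; 0, ((d⁻¹ : Fˣ) : F)] = _
  ext i j; fin_cases i <;> fin_cases j <;> simp [slX, Matrix.mul_apply, Fin.sum_univ_two, mul_comm]

theorem twist_Y (d : Fˣ) (t : F) : twistSL d (slY t) = slY ((d : F) * t) := by
  apply Subtype.ext
  show !![((1 : Fˣ) : F), 0; 0, d] * _ * !![(((1 : Fˣ)⁻¹ : Fˣ) : F), 0; 0, ((d⁻¹ : Fˣ) : F)] = _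
  ext i j; fin_cases i <;> fin_cases j <;> simp [slY, Matrix.mul_apply, Fin.sum_univ_two]

theorem sl2_induction {P : SL(2, F) → Prop} (hX : ∀ t, P (slX t)) (hY : ∀ t, P (slY t))
    (hmul : ∀ a b, P a → P b → P (a * b)) (g : SL(2, F)) : P g := by
  have hne : ∀ g : SL(2, F), g.1 1 0 ≠ 0 → P g := fun g hc => by
    rw [eq_xyx g hc]; exact hmul _ _ (hmul _ _ (hX _) (hY _)) (hX _)
  by_cases hc : g.1 1 0 = 0
  · have e : g = g * slY 1 * slY (-1) := by
      rw [mul_assoc, show slY (1 : F) * slY (-1) = 1 from ?_, mul_one]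
      apply Subtype.ext
      show (slY (1 : F)).1 * (slY (-1)).1 = 1
      ext i j
      fin_cases i <;> fin_cases j <;> simp [slY, Matrix.mul_apply, Fin.sum_univ_two]
    rw [e]
    refine hmul _ _ (hne _ ?_) (hY _)
    rw [mul_slY_c g hc]; exact (ne_zero_of_c g hc).2
  · exact hne g hc

theorem pairing_six : chevG2.pairing 6 7 = -1 ∧ chevG2.pairing 6 4 = 1 := by decide +kernel

theorem phiA_twist (d : Fˣ) (S : SL(2, F)) : phiA (twistSL d S) = tor 1 d * phiA S * (tor 1 d)⁻¹ := by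
  refine sl2_induction (P := fun S => phiA (twistSL d S) = tor 1 d * phiA S * (tor 1 d)⁻¹) (fun t => ?_) (fun t => ?_)
    (fun a b ha hb => ?_) S
  · rw [twist_X, phiA_X, phiA_X, ← hg_six, hg_conj goodG (lt12 (by norm_num)) d.ne_zero, pairing_six.1,
      mul_inv_cancel_right, _root_.zpow_neg_one, Units.val_inv_eq_inv_val]
  · rw [twist_Y, phiA_Y, phiA_Y, ← hg_six, hg_conj goodG (lt12 (by norm_num)) d.ne_zero, pairing_six.2,
      mul_inv_cancel_right, zpow_one]
  · rw [map_mul, map_mul, ha, hb, map_mul]; group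

/-- The homomorphism of GL₂ onto the Levi subgroup. -/
noncomputable def psi : GL (Fin 2) F →* GL chevG2.Idx F :=
  MonoidHom.mk' (fun M => phiA (slPart M) * tor 1 (gdet M)) fun M N => by
    have e : slPart (M * N) = slPart M * twistSL (gdet M) (slPart N) := by
      apply Subtype.ext
      show ((M * N * (dgl 1 (gdet (M * N)))⁻¹ : GL (Fin 2) F) : Matrix (Fin 2) (Fin 2) F) =
        ((M * (dgl 1 (gdet M))⁻¹ * (dgl 1 (gdet M) * (N * (dgl 1 (gdet N))⁻¹) * (dgl 1 (gdet M))⁻¹) :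
          GL (Fin 2) F) : Matrix (Fin 2) (Fin 2) F)
      congr 1
      have : dgl (1 : Fˣ) (gdet (M * N)) = dgl 1 (gdet M) * dgl 1 (gdet N) := by
        apply Units.ext
        ext i j; fin_cases i <;> fin_cases j <;> simp [dgl, gdet_mul, Matrix.mul_apply, Fin.sum_univ_two]
      rw [this]; group
    rw [e, map_mul, phiA_twist, gdet_mul, show tor (1 : Fˣ) (gdet M * gdet N) = tor 1 (gdet M) * tor 1 (gdet N) by
      rw [tor_mul, one_mul]]
    group

theorem psi_apply (M : GL (Fin 2) F) : psi M = phiA (slPart M) * tor 1 (gdet M) := rfl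

theorem slPart_of_sl {M : GL (Fin 2) F} (S : SL(2, F)) (h : (M : Matrix (Fin 2) (Fin 2) F) = S.1) :
    slPart M = S ∧ gdet M = 1 := by
  have hd : gdet M = 1 := Units.ext (by rw [coe_gdet, h, S.2, Units.val_one])
  refine ⟨Subtype.ext ?_, hd⟩
  have : dgl (1 : Fˣ) 1 = 1 := Units.ext (by ext i j; fin_cases i <;> fin_cases j <;> simp [dgl])
  show ((M * (dgl 1 (gdet M))⁻¹ : GL (Fin 2) F) : Matrix (Fin 2) (Fin 2) F) = S.1
  rw [hd, this, inv_one, mul_one, h]

theorem psi_dgl (a b : Fˣ) : psi (dgl a b) = tor a (a * b) := by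
  rw [psi_apply, gdet_dgl]
  have e : phiA (slPart (dgl a b)) = tor a 1 := phiA_diag a _ <| by
    show ((dgl a b * (dgl 1 (gdet (dgl a b)))⁻¹ : GL (Fin 2) F) : Matrix (Fin 2) (Fin 2) F) = _
    rw [gdet_dgl, Units.val_mul]
    show !![(a : F), 0; 0, b] * !![(((1 : Fˣ)⁻¹ : Fˣ) : F), 0; 0, (((a * b)⁻¹ : Fˣ) : F)] = _
    ext i j; fin_cases i <;> fin_cases j <;> simp [Matrix.mul_apply, Fin.sum_univ_two] <;> field_simp
  rw [e, tor_mul, mul_one, one_mul]

theorem psi_mem_group (M : GL (Fin 2) F) : psi M ∈ chevG2.group F := by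
  rw [psi_apply]
  refine mul_mem ?_ ?_
  · exact sl2_induction (P := fun S => phiA S ∈ chevG2.group F) (fun t => by rw [phiA_X]; exact xg_mem_group _ _ _)
      (fun t => by rw [phiA_Y]; exact xg_mem_group _ _ _) (fun a b ha hb => by rw [map_mul]; exact mul_mem ha hb) _
  · exact borel_le_group goodG rootsG2 (Subgroup.mem_sup_right (tor_mem 1 (gdet M)))

/-- The set {0} of fundamental roots of the Levi subgroup. -/
abbrev J0 : Set ℕ := {0}

theorem inRootSub_iff_G2 {r : ℕ} : chevG2.InRootSub J0 r ↔ r = 7 ∨ r = 4 := by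
  constructor
  · rintro ⟨hr, h⟩
    have h1 := h 1 (by rw [rank_G2]; omega) (by simp)
    have key : ∀ r < 12, (chevG2.coroot.getD r #[]).getD 1 0 = 0 → r = 7 ∨ r = 4 := by decide +kernel
    exact key r (by rwa [nroots_G2] at hr) h1
  · intro h
    refine ⟨by rw [nroots_G2]; omega, fun i hi hiJ => ?_⟩
    rw [rank_G2] at hi
    obtain rfl : i = 1 := by simp at hiJ; omega
    rcases h with rfl | rfl <;> decide +kernel

theorem psi_mem_levi (M : GL (Fin 2) F) : psi M ∈ chevG2.leviSubgroup F J0 := by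
  rw [psi_apply]
  refine mul_mem ?_ (Subgroup.mem_sup_left (tor_mem _ _))
  refine sl2_induction (P := fun S => phiA S ∈ chevG2.leviSubgroup F J0) (fun t => ?_) (fun t => ?_)
    (fun a b ha hb => by rw [map_mul]; exact mul_mem ha hb) _
  · rw [phiA_X]
    exact Subgroup.mem_sup_right (Subgroup.subset_closure ⟨7, t, inRootSub_iff_G2.2 (Or.inl rfl), coe_xg _ _ _⟩)
  · rw [phiA_Y]
    exact Subgroup.mem_sup_right (Subgroup.subset_closure ⟨4, t, inRootSub_iff_G2.2 (Or.inr rfl), coe_xg _ _ _⟩)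

theorem levi_eq_range : chevG2.leviSubgroup F J0 = (psi : GL (Fin 2) F →* _).range := by
  refine le_antisymm (sup_le (fun h hh => ?_) ((Subgroup.closure_le _).2 ?_)) ?_
  · obtain ⟨a, b, rfl⟩ := exists_tor hh
    exact ⟨dgl a (a⁻¹ * b), by rw [psi_dgl, mul_inv_cancel_left]⟩
  · rintro g ⟨r, t, hr, e⟩
    obtain rfl : g = xg goodG F r t := Units.ext e
    rcases inRootSub_iff_G2.1 hr with rfl | rfl
    · refine ⟨GeneralLinearGroup.mkOfDetNeZero (slX t).1 (by rw [(slX t).2]; exact one_ne_zero), ?_⟩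
      rw [psi_apply, (slPart_of_sl (slX t) (by rfl)).1, (slPart_of_sl (slX t) (by rfl)).2, tor_one, mul_one, phiA_X]
    · refine ⟨GeneralLinearGroup.mkOfDetNeZero (slY t).1 (by rw [(slY t).2]; exact one_ne_zero), ?_⟩
      rw [psi_apply, (slPart_of_sl (slY t) (by rfl)).1, (slPart_of_sl (slY t) (by rfl)).2, tor_one, mul_one, phiA_Y]
  · rintro _ ⟨M, rfl⟩; exact psi_mem_levi M

/-! ### The highest root vector -/

/-- The index of the highest root. -/
def top : chevG2.Idx := .inr ⟨11, lt12 (by norm_num)⟩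

theorem xg_fix_top {r : ℕ} (hr : r = 7 ∨ r = 4) (t : F) (a : chevG2.Idx) :
    (xg goodG F r t : Matrix chevG2.Idx chevG2.Idx F) a top = if a = top then 1 else 0 := by
  have key : ∀ r ∈ [7, 4], ∀ u < 12, chevG2.chainCoeff r 11 u = [] ∧ r ≠ 11 ∧ chevG2.negIdx.getD r 0 ≠ 11 := by
    decide +kernel
  have hr' : r ∈ [7, 4] := by rcases hr with rfl | rfl <;> simp
  have hlt : r < chevG2.nroots := by rw [nroots_G2]; omega
  obtain ⟨-, h1, h2⟩ := key r hr' 0 (by norm_num)
  have h1' : (⟨11, lt12 (by norm_num)⟩ : Fin chevG2.nroots) ≠ ⟨r, hlt⟩ := fun e => h1 (congrArg Fin.val e).symm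
  rw [coe_xg, ChevalleyDatum.x, dif_pos hlt]
  rcases a with i | u
  · simp only [ChevalleyDatum.xMat, Matrix.of_apply, top]
    rw [if_neg h1', if_neg h2.symm]
    simp
  · obtain ⟨h0, -, -⟩ := key r hr' u.val (u.isLt.trans_le nroots_G2.le)
    simp only [ChevalleyDatum.xMat, Matrix.of_apply, top]
    rw [if_neg h1', if_neg h2.symm, h0]
    simp

theorem col_mul {A B : GL chevG2.Idx F} {c : F}
    (hB : ∀ a, (B : Matrix chevG2.Idx chevG2.Idx F) a top = if a = top then c else 0) (a : chevG2.Idx) :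
    ((A * B : GL chevG2.Idx F) : Matrix chevG2.Idx chevG2.Idx F) a top =
      (A : Matrix chevG2.Idx chevG2.Idx F) a top * c := by
  rw [Units.val_mul, Matrix.mul_apply, Finset.sum_eq_single top (fun b _ hb => by rw [hB, if_neg hb, mul_zero])
    (fun h => absurd (Finset.mem_univ _) h), hB, if_pos rfl]

theorem phiA_col (S : SL(2, F)) (a : chevG2.Idx) :
    (phiA S : Matrix chevG2.Idx chevG2.Idx F) a top = if a = top then 1 else 0 := by
  refine sl2_induction (P := fun S => ∀ a, (phiA S : Matrix chevG2.Idx chevG2.Idx F) a top = if a = top then (1 : F) else 0)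
    (fun t a => by rw [phiA_X]; exact xg_fix_top (Or.inl rfl) t a)
    (fun t a => by rw [phiA_Y]; exact xg_fix_top (Or.inr rfl) t a) (fun A B hA hB a => ?_) S a
  rw [map_mul, col_mul hB, hA, mul_one]

theorem chi_top (a b : Fˣ) : chi (D := chevG2) (fun i => if i.val = 0 then a else b) 11 = b := by
  have h0 : chevG2.cartan 0 11 = 0 ∧ chevG2.cartan 1 11 = 1 := by decide +kernel
  rw [chi, Finset.prod_eq_single (⟨1, by rw [rank_G2]; omega⟩ : Fin chevG2.rank)]
  · simp [h0.2]
  · intro i _ hi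
    have hv : i.val = 0 := by
      have := i.isLt.trans_le rank_G2.le
      by_contra h
      exact hi (Fin.ext (by show i.val = 1; omega))
    simp [hv, h0.1]
  · simp

theorem tor_col (a b : Fˣ) (x : chevG2.Idx) :
    (tor a b : Matrix chevG2.Idx chevG2.Idx F) x top = if x = top then (b : F) else 0 := by
  rw [tor, coe_torusHom, dg, Matrix.diagonal_apply]
  split
  · next h => subst h; simp [top, chi_top]
  · rfl

theorem psi_col (M : GL (Fin 2) F) (a : chevG2.Idx) :
    (psi M : Matrix chevG2.Idx chevG2.Idx F) a top = if a = top then (M : Matrix (Fin 2) (Fin 2) F).det else 0 := by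
  rw [psi_apply, col_mul (tor_col 1 (gdet M)), phiA_col, coe_gdet]
  split <;> simp

end Cfsg.Agent.G2Thompson
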