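/-
The big cell of the maximal parabolic of G₂ of the highest root, by one matrix coefficient.

* `UP`, `UM`, `nT`: the radical, its opposite, the reflection element of the highest root;
* `cell`: an element with nonzero coefficient at the highest root vector lies in `UM · L · UP`;
* `exists_conj_coeff`: a nontrivial element has a conjugate with any prescribed coefficient.
-/
import Cfsg.Agent.EqLemmas
import Cfsg.Agent.Lib.G2Thompson.Levi
import Cfsg.Agent.Lib.ChevBN.Parabolic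
import Cfsg.Agent.Lib.ChevBN.ConnTables
import Cfsg.Agent.Lib.ChevBN.PerfectTables
import Cfsg.Agent.Lib.Twisted.GoodG2
import Cfsg.Agent.Lib.ChevG2SL3.Rep

set_option autoImplicit false
set_option linter.unusedSectionVars false
set_option maxRecDepth 100000

namespace Cfsg.Agent.G2Thompson

open Cfsg.Lie Cfsg.Lie.ChevalleyDatum Cfsg.Agent.Chev Cfsg.Agent.ChevBN Cfsg.Agent.ChevSt Cfsg.Agent.ChevInvolOdd
  Cfsg.Agent.G2Invol Matrix
open scoped MatrixGroups

variable {F : Type*} [Field F]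

local notation "Mx" g => (Units.val g : Matrix chevG2.Idx chevG2.Idx F)
local notation "RR" => chevRGD goodG rootsG2 F

/-- The index of the lowest root. -/
def bot : chevG2.Idx := .inr ⟨0, lt12 (by norm_num)⟩

/-- The index of a root. -/
def ix (r : ℕ) (h : r < 12) : chevG2.Idx := .inr ⟨r, lt12 h⟩

/-- The reflection element of the highest root. -/
def nT : GL chevG2.Idx F := ng goodG F 11 1

/-- The unipotent radical. -/
def UP : Subgroup (GL chevG2.Idx F) := chevG2.unipotentRadical F J0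

/-- Its opposite. -/
def UM : Subgroup (GL chevG2.Idx F) := (UP (F := F)).comap (MulAut.conj (nT (F := F))).toMonoidHom

theorem mem_UM {g : GL chevG2.Idx F} : g ∈ UM (F := F) ↔ nT * g * nT⁻¹ ∈ UP (F := F) := Iff.rfl

theorem nT_mem_N : nT (F := F) ∈ (RR).N := by
  rw [chev_N goodG rootsG2]
  exact Subgroup.mem_sup_right (Subgroup.subset_closure ⟨11, lt12 (by norm_num), coe_ng goodG _ _⟩)

theorem nT_mem_group : nT (F := F) ∈ chevG2.group F :=
  mul_mem (mul_mem (xg_mem_group _ _ _) (xg_mem_group _ _ _)) (xg_mem_group _ _ _)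

theorem perms_nT : Perms goodG (nT : GL chevG2.Idx F) (Chev.refl chevG2 11) :=
  perms_ng goodG (lt12 (by norm_num)) one_ne_zero

theorem nT_row {t : F} (ht : t ≠ 0) {a : chevG2.Idx} (ha : a ≠ bot) : (Mx ng goodG F 11 t) top a = 0 := by
  have e : (Mx ng goodG F 11 t) top a = (chevG2.nMat F 11 t *ᵥ Pi.single a 1) top := by
    rw [Matrix.mulVec_single_one, coe_ng]; rfl
  rw [e]
  rcases a with i | u
  · rw [goodG.n_inl (lt12 (by norm_num)) ht]
    simp [hv, top]
  · have hu : u.val < 12 := u.isLt.trans_le nroots_G2.le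
    have h2 := goodG.n_root (lt12 (q := 11) (by norm_num)) u.isLt ht
    rw [ev_of_lt chevG2 F u.isLt, Fin.eta] at h2
    rw [h2]
    have key : ∀ q < 12, q ≠ 0 → Chev.refl chevG2 11 q ≠ 11 := by decide +kernel
    have hne : Chev.refl chevG2 11 u.val ≠ 11 := key u.val hu fun h => ha (by
      show Sum.inr u = Sum.inr _
      congr 1
      exact Fin.ext h)
    simp [ev, top, hne.symm]

theorem refl11_table : ∀ q < 12, Chev.refl chevG2 11 q < 12 ∧
    (chevG2.IsPosRoot q → q ≠ 7 → chevG2.IsNegRoot (Chev.refl chevG2 11 q)) ∧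
    (q = 7 ∨ q = 4 → Chev.refl chevG2 11 q = q) := by decide +kernel

theorem mem_UP_of {r : ℕ} (hr : chevG2.IsPosRoot r) (h7 : r ≠ 7) (t : F) : xg goodG F r t ∈ UP (F := F) := by
  refine Subgroup.subset_closure ⟨r, t, hr, fun h => ?_, coe_xg _ _ _⟩
  rcases inRootSub_iff_G2.1 h with h | h
  · exact h7 h
  · subst h; revert hr; decide +kernel

theorem UP_le_pos : UP (F := F) ≤ chevG2.posUnipotent F :=
  Subgroup.closure_mono fun g ⟨r, t, hr, _, e⟩ => ⟨r, t, hr, e⟩

theorem UM_le_neg : UM (F := F) ≤ chevG2.negUnipotent F := by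
  intro g hg
  have h : ∀ y ∈ UP (F := F), nT⁻¹ * y * nT ∈ chevG2.negUnipotent F := by
    intro y hy
    induction hy using Subgroup.closure_induction with
    | mem y hy =>
      obtain ⟨r, t, hr, hrJ, e⟩ := hy
      obtain rfl : y = xg goodG F r t := Units.ext e
      have hr12 : r < 12 := hr.1.trans_le nroots_G2.le
      obtain ⟨c, -, hc⟩ := ((perms_ng goodG (lt12 (q := 11) (by norm_num)) (neg_ne_zero.2 (one_ne_zero (α := F))))
        r hr.1).2
      rw [show (nT (F := F))⁻¹ * xg goodG F r t * nT = ng goodG F 11 (-1) * xg goodG F r t * (ng goodG F 11 (-1))⁻¹ by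
        rw [nT, ng_inv goodG 11 (-1 : F), ng_inv, _root_.neg_neg], hc t]
      exact Subgroup.subset_closure ⟨_, _, (refl11_table r hr12).2.1 hr
        (fun h => hrJ (inRootSub_iff_G2.2 (Or.inl h))), coe_xg _ _ _⟩
    | one => simp
    | mul a b _ _ ha hb =>
      convert mul_mem ha hb using 1
      group
    | inv a _ ha =>
      convert inv_mem ha using 1
      group
  have := h _ (mem_UM.1 hg)
  convert this using 1
  group

theorem conj_nT_levi {g : GL chevG2.Idx F} (hg : g ∈ chevG2.leviSubgroup F J0) {n : GL chevG2.Idx F}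
    (hn : n ∈ (RR).N) (hp : Perms goodG n (Chev.refl chevG2 11)) : n * g * n⁻¹ ∈ chevG2.leviSubgroup F J0 := by
  suffices h : chevG2.leviSubgroup F J0 ≤ (chevG2.leviSubgroup F J0).comap (MulAut.conj n).toMonoidHom from h hg
  refine sup_le (fun h hh => ?_) ((Subgroup.closure_le _).2 ?_)
  · refine Subgroup.mem_sup_left (mem_diag_of_perms goodG rootsG2
      (mul_mem (mul_mem hn ((RR).H_le_N hh)) (inv_mem hn)) fun q hq => ?_)
    obtain ⟨χ, -, hχ⟩ := isToral_of_mem goodG hh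
    obtain ⟨h1, c, hc, hcu⟩ := hp (Chev.refl chevG2 11 q) (refl_lt goodG (lt12 (by norm_num)) hq)
    rw [refl_refl_G2 11 (by norm_num) q (hq.trans_le nroots_G2.le)] at hcu
    refine ⟨hq, _, (χ (Chev.refl chevG2 11 q)).ne_zero, fun u => ?_⟩
    show _ = xg goodG F q _
    have e1 : n⁻¹ * xg goodG F q u * n = xg goodG F (Chev.refl chevG2 11 q) (c⁻¹ * u) := by
      have := hcu (c⁻¹ * u)
      rw [← mul_assoc c, mul_inv_cancel₀ hc, one_mul] at this
      rw [← this]; group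
    show n * h * n⁻¹ * xg goodG F q u * (n * h * n⁻¹)⁻¹ = _
    rw [show n * h * n⁻¹ * xg goodG F q u * (n * h * n⁻¹)⁻¹ = n * (h * (n⁻¹ * xg goodG F q u * n) * h⁻¹) * n⁻¹ by
      group, e1, hχ, mul_inv_cancel_right, hcu]
    congr 1
    field_simp
  · rintro x ⟨r, t, hr, e⟩
    obtain rfl : x = xg goodG F r t := Units.ext e
    obtain ⟨-, c, -, hc⟩ := hp r hr.1
    show n * xg goodG F r t * n⁻¹ ∈ chevG2.leviSubgroup F J0
    have h12 : r < 12 := hr.1.trans_le nroots_G2.le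
    rw [hc t, (refl11_table r h12).2.2 (inRootSub_iff_G2.1 hr)]
    exact Subgroup.mem_sup_right (Subgroup.subset_closure ⟨r, _, hr, coe_xg _ _ _⟩)

theorem levi_norm_UP {g : GL chevG2.Idx F} (hg : g ∈ chevG2.leviSubgroup F J0) {u : GL chevG2.Idx F}
    (hu : u ∈ UP (F := F)) : g * u * g⁻¹ ∈ UP (F := F) := by
  have h := (levi_decomposition goodG rootsG2 J0 (F := F)).1
    ((radical_sup_levi goodG rootsG2 J0 (F := F)).le (Subgroup.mem_sup_right hg))
  exact (Subgroup.mem_normalizer_iff.1 h u).1 hu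

theorem levi_norm_UM {g : GL chevG2.Idx F} (hg : g ∈ chevG2.leviSubgroup F J0) {u : GL chevG2.Idx F}
    (hu : u ∈ UM (F := F)) : g * u * g⁻¹ ∈ UM (F := F) := by
  rw [mem_UM] at hu ⊢
  have := levi_norm_UP (conj_nT_levi hg nT_mem_N perms_nT) hu
  convert this using 1
  group

theorem mem_parabolic_decomp {g : GL chevG2.Idx F} (hg : g ∈ chevG2.parabolicSubgroup F J0) :
    ∃ u ∈ UP (F := F), ∃ l ∈ chevG2.leviSubgroup F J0, g = u * l := by
  rw [← radical_sup_levi goodG rootsG2 J0] at hg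
  refine Subgroup.closure_induction (p := fun x _ => ∃ u ∈ UP (F := F), ∃ l ∈ chevG2.leviSubgroup F J0, x = u * l)
    (fun x hx => ?_) ⟨1, one_mem _, 1, one_mem _, by group⟩ ?_ ?_ (by rwa [Subgroup.sup_eq_closure] at hg)
  · rcases hx with hx | hx
    · exact ⟨x, hx, 1, one_mem _, by group⟩
    · exact ⟨1, one_mem _, x, hx, by group⟩
  · rintro x y - - ⟨u, hu, l, hl, rfl⟩ ⟨u', hu', l', hl', rfl⟩
    exact ⟨u * (l * u' * l⁻¹), mul_mem hu (levi_norm_UP hl hu'), l * l', mul_mem hl hl', by group⟩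
  · rintro x - ⟨u, hu, l, hl, rfl⟩
    exact ⟨l⁻¹ * u⁻¹ * l⁻¹⁻¹, levi_norm_UP (inv_mem hl) (inv_mem hu), l⁻¹, inv_mem hl, by group⟩

/-! ### Columns -/

theorem ht_top_bot : ∀ q < 12, (q ≠ 11 → ht chevG2 adjG2 q < ht chevG2 adjG2 11) ∧
    (q ≠ 0 → ht chevG2 adjG2 0 < ht chevG2 adjG2 q) ∧ ht chevG2 adjG2 11 > 0 ∧ ht chevG2 adjG2 0 < 0 := by
  decide +kernel

theorem wt_le_top (a : chevG2.Idx) (ha : a ≠ top) :
    wt chevG2 (ht chevG2 adjG2) a < wt chevG2 (ht chevG2 adjG2) top := by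
  rcases a with i | u
  · exact (ht_top_bot 0 (by norm_num)).2.2.1
  · exact (ht_top_bot u.val (u.isLt.trans_le nroots_G2.le)).1 fun h => ha (by
      show Sum.inr u = Sum.inr _; congr 1; exact Fin.ext h)

theorem bot_lt_wt (a : chevG2.Idx) (ha : a ≠ bot) :
    wt chevG2 (ht chevG2 adjG2) bot < wt chevG2 (ht chevG2 adjG2) a := by
  rcases a with i | u
  · exact (ht_top_bot 0 (by norm_num)).2.2.2
  · exact (ht_top_bot u.val (u.isLt.trans_le nroots_G2.le)).2.1 fun h => ha (by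
      show Sum.inr u = Sum.inr _; congr 1; exact Fin.ext h)

theorem pos_col {u : GL chevG2.Idx F} (hu : u ∈ chevG2.posUnipotent F) (a : chevG2.Idx) :
    (Mx u) a top = if a = top then 1 else 0 := by
  obtain ⟨h1, h2⟩ := uTri_pos goodG rootsG2 hu
  split
  · next h => rw [h, h2]
  · next h =>
    by_contra hne
    rcases h1 a top hne with e | e
    · exact h e
    · exact absurd e (not_lt.2 (wt_le_top a h).le)

theorem pos_row {u : GL chevG2.Idx F} (hu : u ∈ chevG2.posUnipotent F) {b : chevG2.Idx} (hb : b ≠ bot) :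
    (Mx u) bot b = 0 := by
  obtain ⟨h1, -⟩ := uTri_pos goodG rootsG2 hu
  by_contra hne
  rcases h1 bot b hne with e | e
  · exact hb e.symm
  · exact absurd e (not_lt.2 (bot_lt_wt b hb).le)

theorem col_mul' {A B : GL chevG2.Idx F} {c : F} {j b : chevG2.Idx}
    (hB : ∀ a, (Mx B) a j = if a = b then c else 0) (a : chevG2.Idx) :
    (Mx (A * B)) a j = (Mx A) a b * c := by
  rw [Units.val_mul, Matrix.mul_apply, Finset.sum_eq_single b (fun x _ hx => by rw [hB, if_neg hx, mul_zero])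
    (fun h => absurd (Finset.mem_univ _) h), hB, if_pos rfl]

theorem diag_col {h : GL chevG2.Idx F} (hh : h ∈ chevG2.diagonalSubgroup F) (j : chevG2.Idx) :
    ∃ c : F, c ≠ 0 ∧ ∀ a, (Mx h) a j = if a = j then c else 0 := by
  obtain ⟨χ, hχ, -⟩ := isToral_of_mem goodG hh
  refine ⟨Sum.elim (fun _ => (1 : F)) (fun s : Fin chevG2.nroots => (χ s : F)) j, ?_, fun a => ?_⟩
  · rcases j with i | s <;> simp
  · rw [hχ, dg, Matrix.diagonal_apply]
    split
    · next h => rw [h]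
    · rfl

theorem nw_col (l : List (Fin chevG2.rank)) : ∃ (c : F) (γ : ℕ) (h : γ < 12), c ≠ 0 ∧
    γ = l.foldr (fun i p => wN chevG2 i.val p) 11 ∧ ∀ a, (Mx ((RR).nw l)) a top = if a = ix γ h then c else 0 := by
  induction l with
  | nil => exact ⟨1, 11, by norm_num, one_ne_zero, rfl, fun a => by
      rw [show (RR).nw [] = 1 from rfl, Units.val_one, Matrix.one_apply]
      rfl⟩
  | cons i l ih =>
    obtain ⟨c, γ, hγ, hc, e, hcol⟩ := ih
    have hi := goodG.simple_lt i.val i.isLt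
    have hγ' : Chev.refl chevG2 (chevG2.simple i.val) γ < 12 :=
      (refl_lt goodG hi (lt12 hγ)).trans_le nroots_G2.le
    set η : F := (nSign chevG2 (chevG2.simple i.val) γ : F) * (1 : F) ^ (-chevG2.pairing (chevG2.simple i.val) γ)
    have hη : η ≠ 0 := by
      refine mul_ne_zero ?_ (zpow_ne_zero _ one_ne_zero)
      rcases (nSign_cases goodG hi (lt12 hγ)).1 with h | h <;> rw [h] <;> simp
    refine ⟨η * c, Chev.refl chevG2 (chevG2.simple i.val) γ, hγ', mul_ne_zero hη hc, ?_, fun a => ?_⟩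
    · rw [List.foldr_cons, ← e]; rfl
    · rw [show (RR).nw (i :: l) = ng goodG F (chevG2.simple i.val) 1 * (RR).nw l from rfl, col_mul' hcol]
      have h := congrFun (goodG.n_root hi (lt12 hγ) (one_ne_zero (α := F))) a
      rw [mulVec_ev chevG2 _ (lt12 hγ)] at h
      rw [coe_ng, show chevG2.nMat F (chevG2.simple i.val) 1 a (ix γ hγ) = _ from h, ev_of_lt chevG2 F (lt12 hγ')]
      simp only [Pi.smul_apply, smul_eq_mul, ix]
      by_cases h' : a = Sum.inr ⟨_, lt12 hγ'⟩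
      · subst h'; simp [η]
      · simp [η, Pi.single_apply, h']

/-- The Bruhat form of an element: column of the highest root vector. -/
theorem exists_bruhat {g : GL chevG2.Idx F} (hg : g ∈ chevG2.group F) :
    ∃ v ∈ chevG2.posUnipotent F, ∃ h ∈ chevG2.diagonalSubgroup F, ∃ m ∈ (RR).N, ∃ u ∈ chevG2.posUnipotent F,
      g = v * h * m * u ∧ ∃ (p : List ℕ) (c : F) (hγ : pf p 11 < 12), p ∈ w12 ∧ Perms goodG m (pf p) ∧ c ≠ 0 ∧
        ∀ a, (Mx (h * m * u)) a top = if a = ix (pf p 11) hγ then c else 0 := by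
  rw [← chev_G goodG rootsG2] at hg
  obtain ⟨b, hb, l, u, hu, rfl⟩ := (RR).exists_normalForm hg
  obtain ⟨v, hv, h, hh, rfl⟩ := (RR).exists_B hb
  have hu' := (RR).Uminus_le_Upos l hu
  rw [chev_Upos goodG rootsG2] at hv hu'
  obtain ⟨c, γ, hγ, hc, e, hcol⟩ := nw_col (F := F) l
  obtain ⟨p, hp, hP⟩ := exists_w12 ((RR).nw_mem_N l)
  have he : γ = pf p 11 := by
    rw [e]
    exact (perms_word goodG rootsG2 l).unique goodG hP (lt12 (by norm_num))
  subst he
  obtain ⟨d, hd, hdc⟩ := diag_col hh (ix (pf p 11) hγ)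
  refine ⟨v, hv, h, hh, (RR).nw l, (RR).nw_mem_N l, u, hu', rfl, p, d * c, hγ, hp, hP, mul_ne_zero hd hc,
    fun a => ?_⟩
  rw [col_mul' (pos_col hu'), mul_one, col_mul' hcol, hdc]
  split <;> simp

/-- An element with nonzero coefficient at the highest root vector lies in the big cell. -/
theorem cell {g : GL chevG2.Idx F} (hg : g ∈ chevG2.group F) (hf : (Mx g) top top ≠ 0) :
    ∃ v ∈ UM (F := F), ∃ M : GL (Fin 2) F, ∃ u ∈ UP (F := F),
      g = v * psi M * u ∧ (M : Matrix (Fin 2) (Fin 2) F).det = (Mx g) top top := by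
  obtain ⟨v, hv, h, hh, m, hm, u, hu, e, p, c, hγ, hp, hP, hc, hcol⟩ :=
    exists_bruhat (mul_mem nT_mem_group hg)
  have hγ0 : pf p 11 = 0 := by
    by_contra hne
    apply hf
    have e1 : g = nT⁻¹ * v * (h * m * u) := by
      rw [show g = nT⁻¹ * (nT * g) by group, e]; group
    rw [e1, col_mul' hcol]
    have : (Mx (nT⁻¹ * v)) top (ix (pf p 11) hγ) = 0 := by
      rw [Units.val_mul, Matrix.mul_apply, Finset.sum_eq_single bot]
      · rw [pos_row hv (fun e => hne (by simpa [ix, bot] using e)), mul_zero]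
      · intro b _ hb
        rw [nT, ng_inv, nT_row (neg_ne_zero.2 one_ne_zero) hb, zero_mul]
      · exact fun h => absurd (Finset.mem_univ _) h
    rw [this, zero_mul]
  -- the monomial part lies in nT⁻¹ L
  have key : ∀ p ∈ w12, pf p 11 = 0 → (∀ q < 12, Chev.refl chevG2 11 (pf p q) = q) ∨
      (∀ q < 12, Chev.refl chevG2 7 (Chev.refl chevG2 11 (pf p q)) = q) := by decide +kernel
  have hL : nT * m ∈ chevG2.leviSubgroup F J0 := by
    have h7 : ng goodG F 7 (1 : F) ∈ chevG2.leviSubgroup F J0 := by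
      refine mul_mem (mul_mem ?_ ?_) ?_ <;> refine Subgroup.mem_sup_right (Subgroup.subset_closure ?_)
      · exact ⟨7, 1, inRootSub_iff_G2.2 (Or.inl rfl), coe_xg _ _ _⟩
      · exact ⟨4, -1⁻¹, inRootSub_iff_G2.2 (Or.inr rfl), by rw [coe_xg, neg_seven]⟩
      · exact ⟨7, 1, inRootSub_iff_G2.2 (Or.inl rfl), coe_xg _ _ _⟩
    rcases key p hp hγ0 with h | h
    · exact Subgroup.mem_sup_left (mem_diag_of_perms goodG rootsG2 (mul_mem nT_mem_N hm)
        ((perms_nT.mul goodG hP).congr goodG fun q hq => h q (hq.trans_le nroots_G2.le)))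
    · have hN7 : ng goodG F 7 (1 : F) ∈ (RR).N := by
        rw [chev_N goodG rootsG2]
        exact Subgroup.mem_sup_right (Subgroup.subset_closure ⟨7, lt12 (by norm_num), coe_ng goodG _ _⟩)
      have hd := mem_diag_of_perms goodG rootsG2 (mul_mem hN7 (mul_mem nT_mem_N hm))
        (((perms_ng goodG (lt12 (q := 7) (by norm_num)) one_ne_zero).mul goodG (perms_nT.mul goodG hP)).congr goodG
          fun q hq => h q (hq.trans_le nroots_G2.le))
      rw [show nT * m = (ng goodG F 7 (1 : F))⁻¹ * (ng goodG F 7 1 * (nT * m)) by group]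
      exact mul_mem (inv_mem h7) (Subgroup.mem_sup_left hd)
  -- the parabolic parts
  have hpar : ∀ x ∈ chevG2.posUnipotent F, x ∈ chevG2.parabolicSubgroup F J0 := fun x hx =>
    Subgroup.mem_sup_left (Subgroup.mem_sup_left hx)
  obtain ⟨v₁, hv₁, l₁, hl₁, rfl⟩ := mem_parabolic_decomp (hpar v hv)
  obtain ⟨u₁, hu₁, l₂, hl₂, rfl⟩ := mem_parabolic_decomp (hpar u hu)
  have hn' : (nT (F := F))⁻¹ ∈ (RR).N := inv_mem nT_mem_N
  have hp' : Perms goodG ((nT (F := F))⁻¹) (Chev.refl chevG2 11) := by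
    rw [nT, ng_inv]; exact perms_ng goodG (lt12 (by norm_num)) (neg_ne_zero.2 one_ne_zero)
  have hnn : (nT (F := F))⁻¹ * nT⁻¹ ∈ chevG2.leviSubgroup F J0 :=
    Subgroup.mem_sup_left (mem_diag_of_perms goodG rootsG2 (mul_mem hn' hn')
      ((hp'.mul goodG hp').congr goodG fun q hq => refl_refl_G2 11 (by norm_num) q (hq.trans_le nroots_G2.le)))
  set l := nT⁻¹ * (l₁ * h) * nT⁻¹⁻¹ * (nT⁻¹ * nT⁻¹) * (nT * m) with hl
  have hlL : l ∈ chevG2.leviSubgroup F J0 :=
    mul_mem (mul_mem (conj_nT_levi (mul_mem hl₁ (Subgroup.mem_sup_left hh)) hn' hp') hnn) hL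
  obtain ⟨M, hM⟩ := (levi_eq_range (F := F) ▸ mul_mem hlL
    (mul_mem (one_mem _) hl₂) : l * (1 * l₂) ∈ (psi : GL (Fin 2) F →* _).range)
  refine ⟨nT⁻¹ * v₁ * nT, ?_, M, l₂⁻¹ * u₁ * l₂⁻¹⁻¹, levi_norm_UP (inv_mem hl₂) hu₁, ?_⟩
  · rw [mem_UM]; convert hv₁ using 1; group
  have eg : g = nT⁻¹ * v₁ * nT * psi M * (l₂⁻¹ * u₁ * l₂⁻¹⁻¹) := by
    rw [hM, hl, show g = nT⁻¹ * (nT * g) by group, e]; group
  refine ⟨eg, ?_⟩
  have hu2 : l₂⁻¹ * u₁ * l₂⁻¹⁻¹ ∈ chevG2.posUnipotent F := UP_le_pos (levi_norm_UP (inv_mem hl₂) hu₁)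
  have hv2 : nT⁻¹ * v₁ * nT ∈ chevG2.negUnipotent F := UM_le_neg (by rw [mem_UM]; convert hv₁ using 1; group)
  rw [eg, col_mul' (pos_col hu2), mul_one, col_mul' (psi_col M), (uTri_negRoots goodG rootsG2 hv2).2, one_mul]

/-! ### A conjugate with prescribed coefficient -/

theorem w12_long : ∀ p ∈ w12, pf p 11 = 0 ∨ pf p 11 = 1 ∨ pf p 11 = 5 ∨ pf p 11 = 6 ∨ pf p 11 = 10 ∨ pf p 11 = 11 := by
  decide +kernel

theorem row_ten (t : F) (a : chevG2.Idx) : (Mx xg goodG F 10 t) top a =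
    if a = top then 1 else if a = ix 6 (by norm_num) then -t else 0 := by
  have k2' : ∀ q < 12, q ≠ 10 → q ≠ chevG2.negIdx.getD 10 0 → chevG2.chainCoeff 10 q 11 =
      if q = 6 then [((1 : ℕ), (-1 : ℤ))] else [] := by decide +kernel
  obtain ⟨k1, k3, k4⟩ : (10 : ℕ) ≠ 11 ∧ chevG2.neg 10 ≠ 11 ∧ chevG2.neg 10 ≠ 6 := by decide +kernel
  rw [coe_xg, x_eq_xR chevG2 (lt12 (by norm_num))]
  rcases a with i | u
  · simp [xR, top, ix, Fin.ext_iff, Ne.symm k1]
  · have k2 := k2' u.val (u.isLt.trans_le nroots_G2.le)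
    simp only [xR, top, ix, Matrix.of_apply, Sum.inr.injEq, Fin.ext_iff]
    by_cases h1 : u.val = 10
    · simp [h1, Ne.symm k1]
    · by_cases h2 : u.val = chevG2.neg 10
      · simp [h2, k3, k3.symm, Ne.symm k1, k4, Ne.symm k4, h2 ▸ h1]
      · rw [if_neg h1, if_neg h2, k2 h1 h2]
        by_cases h3 : u.val = 6
        · simp [h3]
        · simp [h3, eq_comm]

theorem row_six (t : F) (a : chevG2.Idx) : (Mx xg goodG F 6 t) top a =
    if a = top then 1 else if a = ix 10 (by norm_num) then t else 0 := by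
  have k2' : ∀ q < 12, q ≠ 6 → q ≠ chevG2.negIdx.getD 6 0 → chevG2.chainCoeff 6 q 11 =
      if q = 10 then [((1 : ℕ), (1 : ℤ))] else [] := by decide +kernel
  obtain ⟨k1, k3, k4⟩ : (6 : ℕ) ≠ 11 ∧ chevG2.neg 6 ≠ 11 ∧ chevG2.neg 6 ≠ 10 := by decide +kernel
  rw [coe_xg, x_eq_xR chevG2 (lt12 (by norm_num))]
  rcases a with i | u
  · simp [xR, top, ix, Fin.ext_iff, Ne.symm k1]
  · have k2 := k2' u.val (u.isLt.trans_le nroots_G2.le)
    simp only [xR, top, ix, Matrix.of_apply, Sum.inr.injEq, Fin.ext_iff]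
    by_cases h1 : u.val = 6
    · simp [h1, Ne.symm k1]
    · by_cases h2 : u.val = chevG2.neg 6
      · simp [h2, k3, k3.symm, Ne.symm k1, k4, Ne.symm k4, h2 ▸ h1]
      · rw [if_neg h1, if_neg h2, k2 h1 h2]
        by_cases h3 : u.val = 10
        · simp [h3]
        · simp [h3, eq_comm]

theorem zint_table :
    (xR chevG2 ℤ 11 1) top (ix 5 (by norm_num)) = 0 ∧ (xR chevG2 ℤ 11 1) (ix 10 (by norm_num)) (ix 5 (by norm_num)) = -1 ∧
    (xR chevG2 ℤ 11 1) top (ix 1 (by norm_num)) = 0 ∧ (xR chevG2 ℤ 11 1) (ix 6 (by norm_num)) (ix 1 (by norm_num)) = 1 ∧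
    (xR chevG2 ℤ 10 1 * xR chevG2 ℤ 11 1) top bot = -1 ∧
    (xR chevG2 ℤ 10 1 * xR chevG2 ℤ 11 1) (ix 10 (by norm_num)) bot = -1 := by decide +kernel

theorem coe_xg_int (r : ℕ) (hr : r < 12) :
    (Mx xg goodG F r 1) = (xR chevG2 ℤ r 1).map (Int.castRingHom F) := by
  rw [coe_xg, x_eq_xR chevG2 (lt12 hr), xR_map, map_one]

theorem row_sum {A B : GL chevG2.Idx F} {c : F} {b j : chevG2.Idx} (hb : b ≠ top)
    (hA : ∀ a, (Mx A) top a = if a = top then 1 else if a = b then c else 0) :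
    (Mx (A * B)) top j = (Mx B) top j + c * (Mx B) b j := by
  rw [Units.val_mul, Matrix.mul_apply, ← Finset.sum_subset (Finset.subset_univ {top, b}), Finset.sum_pair hb.symm,
    hA, hA, if_pos rfl, if_neg hb, if_pos rfl, one_mul]
  intro x _ hx
  simp only [Finset.mem_insert, Finset.mem_singleton, not_or] at hx
  rw [hA, if_neg hx.1, if_neg hx.2, zero_mul]

theorem exists_entry {γ : ℕ} (hγ : γ < 12) (h : γ = 0 ∨ γ = 1 ∨ γ = 5 ∨ γ = 6 ∨ γ = 10) (a : F) :
    ∃ x ∈ chevG2.posUnipotent F, (Mx x) top (ix γ hγ) = a := by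
  have hU : ∀ r ∈ [6, 10, 11], ∀ t : F, xg goodG F r t ∈ chevG2.posUnipotent F := fun r hr t => by
    refine Subgroup.subset_closure ⟨r, t, ?_, coe_xg _ _ _⟩
    revert r; decide +kernel
  obtain ⟨z1, z2, z3, z4, z5, z6⟩ := zint_table
  have hne : ∀ (r : ℕ) (hr : r < 12), r ≠ 11 → ix r hr ≠ top := fun r hr h e => h (by simpa [ix, top] using e)
  rcases h with rfl | rfl | rfl | rfl | rfl
  · refine ⟨xg goodG F 6 (-(a + 1)) * (xg goodG F 10 1 * xg goodG F 11 1),
      mul_mem (hU _ (by simp) _) (mul_mem (hU _ (by simp) _) (hU _ (by simp) _)), ?_⟩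
    rw [row_sum (hne 10 (by norm_num) (by norm_num)) (row_six _), Units.val_mul, coe_xg_int 10 (by norm_num),
      coe_xg_int 11 (by norm_num), ← Matrix.map_mul]
    simp only [Matrix.map_apply, show ix 0 hγ = bot from rfl, z5, z6]
    simp
  · refine ⟨xg goodG F 10 (-a) * xg goodG F 11 1, mul_mem (hU _ (by simp) _) (hU _ (by simp) _), ?_⟩
    rw [row_sum (hne 6 (by norm_num) (by norm_num)) (row_ten _), coe_xg_int 11 (by norm_num)]
    simp [Matrix.map_apply, z3, z4]
  · refine ⟨xg goodG F 6 (-a) * xg goodG F 11 1, mul_mem (hU _ (by simp) _) (hU _ (by simp) _), ?_⟩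
    rw [row_sum (hne 10 (by norm_num) (by norm_num)) (row_six _), coe_xg_int 11 (by norm_num)]
    simp [Matrix.map_apply, z1, z2]
  · refine ⟨xg goodG F 10 (-a), hU _ (by simp) _, ?_⟩
    rw [row_ten, if_neg (hne 6 hγ (by norm_num)), if_pos rfl, _root_.neg_neg]
  · refine ⟨xg goodG F 6 a, hU _ (by simp) _, ?_⟩
    rw [row_six, if_neg (hne 10 hγ (by norm_num)), if_pos rfl]

/-- Multiplying the highest root vector by a scalar. -/
def FixLine (g : GL chevG2.Idx F) : Prop := ∃ c : F, ∀ a, (Mx g) a top = if a = top then c else 0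

theorem FixLine.mul {g h : GL chevG2.Idx F} : FixLine g → FixLine h → FixLine (g * h) := by
  rintro ⟨c, hc⟩ ⟨d, hd⟩
  exact ⟨c * d, fun a => by rw [col_mul' hd, hc]; split <;> simp⟩

theorem FixLine.inv {g : GL chevG2.Idx F} : FixLine g → FixLine g⁻¹ := by
  rintro ⟨c, hc⟩
  refine ⟨c⁻¹, fun a => ?_⟩
  have h : ∀ b, (1 : Matrix chevG2.Idx chevG2.Idx F) b top = (Mx g⁻¹) b top * c := fun b => by
    rw [← col_mul' hc, inv_mul_cancel, Units.val_one]
  have hc0 : c ≠ 0 := fun e => by simpa [e] using h top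
  have h' := h a
  rw [Matrix.one_apply] at h'
  split at h'
  · next e => rw [if_pos e, eq_comm, inv_eq_of_mul_eq_one_left h'.symm]
  · next e => rw [if_neg e]; exact (mul_eq_zero.1 h'.symm).resolve_right hc0

theorem exists_conj_not_fix (hF : ∃ a : F, a ≠ 0 ∧ a ≠ 1) {g : GL chevG2.Idx F} (hg : g ∈ chevG2.group F)
    (h1 : g ≠ 1) : ∃ k ∈ chevG2.group F, ¬ FixLine (k * g * k⁻¹) := by
  have hsimple : IsSimpleGroup ↥(chevG2.group F) :=
    (ChevBN.group_isSimple Cfsg.Agent.Twisted.good_chevG2 ChevBN.rootsG2 ChevBN.connG2 (by decide)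
      (ChevBN.commutator_group_eq_top Cfsg.Agent.Twisted.good_chevG2 (Or.inr hF)
        (fun q hq => ⟨_, ChevBN.smallOK_G2 q hq⟩) Cfsg.Agent.Twisted.good_chevG2.pairing_self)).1
  by_contra hcon
  push Not at hcon
  let N : Subgroup ↥(chevG2.group F) :=
    { carrier := {x | ∀ k : ↥(chevG2.group F), FixLine ((k * x * k⁻¹ : ↥(chevG2.group F)) : GL chevG2.Idx F)}
      one_mem' := fun k => by
        refine ⟨1, fun a => ?_⟩
        simp [Matrix.one_apply]
      mul_mem' := fun {x y} hx hy k => by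
        rw [show k * (x * y) * k⁻¹ = (k * x * k⁻¹) * (k * y * k⁻¹) by group, Subgroup.coe_mul]
        exact (hx k).mul (hy k)
      inv_mem' := fun {x} hx k => by
        rw [show k * x⁻¹ * k⁻¹ = (k * x * k⁻¹)⁻¹ by group, Subgroup.coe_inv]
        exact (hx k).inv }
  have hN : N.Normal := ⟨fun x hx k k' => by
    rw [show k' * (k * x * k⁻¹) * k'⁻¹ = (k' * k) * x * (k' * k)⁻¹ by group]
    exact hx _⟩
  rcases hN.eq_bot_or_eq_top with h | h
  · have : (⟨g, hg⟩ : ↥(chevG2.group F)) ∈ N := fun k => hcon k k.2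
    rw [h, Subgroup.mem_bot] at this
    exact h1 (congrArg Subtype.val this)
  · have hn : (⟨nT, nT_mem_group⟩ : ↥(chevG2.group F)) ∈ N := h ▸ Subgroup.mem_top _
    have h2 := hn 1
    simp only [one_mul, inv_one, mul_one] at h2
    obtain ⟨c, hc⟩ := h2
    have h3 : (Mx (nT⁻¹ * nT)) top top = 0 := by
      rw [col_mul' hc]
      rw [nT, ng_inv, nT_row (neg_ne_zero.2 one_ne_zero) (by simp [top, bot]), zero_mul]
    rw [inv_mul_cancel, Units.val_one, Matrix.one_apply_eq] at h3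
    exact one_ne_zero h3

theorem exists_conj_coeff (hF : ∃ a : F, a ≠ 0 ∧ a ≠ 1) {g : GL chevG2.Idx F} (hg : g ∈ chevG2.group F)
    (h1 : g ≠ 1) (a : F) : ∃ k ∈ chevG2.group F, (Mx (k * g * k⁻¹)) top top = a := by
  obtain ⟨k, hk, hnot⟩ := exists_conj_not_fix hF hg h1
  obtain ⟨v, hv, h, hh, m, hm, u, hu, e, p, c, hγ, hp, -, hc, hcol⟩ :=
    exists_bruhat (mul_mem (mul_mem hk hg) (inv_mem hk))
  have hUG : chevG2.posUnipotent F ≤ chevG2.group F :=
    (le_sup_left : chevG2.posUnipotent F ≤ chevG2.borelSubgroup F).trans (borel_le_group goodG rootsG2)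
  have hne : pf p 11 ≠ 11 := fun hp11 => hnot ⟨c, fun a => by
    rw [e, show v * h * m * u = v * (h * m * u) by group, col_mul' hcol]
    simp only [hp11, show ix 11 (by norm_num) = top from rfl]
    rw [pos_col hv]
    split <;> simp⟩
  obtain ⟨x, hx, hxa⟩ := exists_entry hγ (by have := w12_long p hp; tauto) (a / c)
  refine ⟨x * (v⁻¹ * k), mul_mem (hUG hx) (mul_mem (inv_mem (hUG hv)) hk), ?_⟩
  rw [show x * (v⁻¹ * k) * g * (x * (v⁻¹ * k))⁻¹ = x * (v⁻¹ * (k * g * k⁻¹)) * (v * x⁻¹) by group, e,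
    show x * (v⁻¹ * (v * h * m * u)) * (v * x⁻¹) = x * (h * m * u) * (v * x⁻¹) by group,
    col_mul' (pos_col (mul_mem hv (inv_mem hx))), mul_one, col_mul' hcol, hxa, div_mul_cancel₀ _ hc]

end Cfsg.Agent.G2Thompson
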