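/-
Products of two conjugates of a semisimple element of the Levi subgroup GL₂ of G₂.

* `FPF X`: `psi X` has no fixed points on the radical and its opposite;
* `cover_of_good`: a conjugate in `UM · psi (M₁ M₂) · UP` gives a product of two conjugates of `psi X`;
* `fpf_dgl`: regular torus elements are fixed point free; `exists_split`: the case of a field with at least 7 elements.
-/
import Cfsg.Agent.EqLemmas
import Cfsg.Agent.Lib.G2Thompson.Cell
import Mathlib.RingTheory.IntegralDomain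
import Mathlib.FieldTheory.Finite.Basic

set_option autoImplicit false
set_option linter.unusedSectionVars false
set_option maxRecDepth 100000

namespace Cfsg.Agent.G2Thompson

open Cfsg.Lie Cfsg.Lie.ChevalleyDatum Cfsg.Agent.Chev Cfsg.Agent.ChevBN Cfsg.Agent.ChevSt Cfsg.Agent.ChevInvolOdd
  Cfsg.Agent.G2Invol Matrix
open scoped MatrixGroups

variable {F : Type*} [Field F]

/-- A fixed point free normalising element: translation by `A` stays in the class. -/
theorem exists_conj_translate {Γ : Type*} [Group Γ] {A : Subgroup Γ} [Finite A] {m : Γ}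
    (hn : ∀ a ∈ A, m * a * m⁻¹ ∈ A) (hn' : ∀ a ∈ A, m⁻¹ * a * m ∈ A) (hc : ∀ a ∈ A, m * a = a * m → a = 1)
    {v : Γ} (hv : v ∈ A) : (∃ a ∈ A, a * m * a⁻¹ = v * m) ∧ ∃ a ∈ A, a * m * a⁻¹ = m * v := by
  constructor
  · let φ : A → A := fun a => ⟨(a : Γ) * (m * (a : Γ)⁻¹ * m⁻¹), mul_mem a.2 (hn _ (inv_mem a.2))⟩
    have hinj : Function.Injective φ := fun a b e => by
      have e' : (a : Γ) * (m * (a : Γ)⁻¹ * m⁻¹) = (b : Γ) * (m * (b : Γ)⁻¹ * m⁻¹) := congrArg Subtype.val e
      have h := hc ((b : Γ)⁻¹ * a) (mul_mem (inv_mem b.2) a.2) (by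
        calc m * ((b : Γ)⁻¹ * a) = (b : Γ)⁻¹ * ((b : Γ) * (m * (b : Γ)⁻¹ * m⁻¹)) * m * a := by group
          _ = _ := by rw [← e']; group)
      exact Subtype.ext (inv_mul_eq_one.1 h).symm
    obtain ⟨a, ha⟩ := Finite.surjective_of_injective hinj ⟨v, hv⟩
    refine ⟨a, a.2, ?_⟩
    have e : (a : Γ) * (m * (a : Γ)⁻¹ * m⁻¹) = v := congrArg Subtype.val ha
    rw [← e]; group
  · let φ : A → A := fun a => ⟨m⁻¹ * (a : Γ) * m * (a : Γ)⁻¹, mul_mem (hn' _ a.2) (inv_mem a.2)⟩
    have hinj : Function.Injective φ := fun a b e => by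
      have e' : m⁻¹ * (a : Γ) * m * (a : Γ)⁻¹ = m⁻¹ * (b : Γ) * m * (b : Γ)⁻¹ := congrArg Subtype.val e
      have h := hc ((b : Γ)⁻¹ * a) (mul_mem (inv_mem b.2) a.2) (by
        calc m * ((b : Γ)⁻¹ * a) = (b : Γ)⁻¹ * m * (m⁻¹ * (b : Γ) * m * (b : Γ)⁻¹) * a := by group
          _ = _ := by rw [← e']; group)
      exact Subtype.ext (inv_mul_eq_one.1 h).symm
    obtain ⟨a, ha⟩ := Finite.surjective_of_injective hinj ⟨v, hv⟩
    refine ⟨a, a.2, ?_⟩
    have e : m⁻¹ * (a : Γ) * m * (a : Γ)⁻¹ = v := congrArg Subtype.val ha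
    rw [← e]; group

/-- Fixed point freeness of `psi X` on both radicals. -/
def FPF (X : GL (Fin 2) F) : Prop :=
  (∀ u ∈ UP (F := F), psi X * u = u * psi X → u = 1) ∧ ∀ u ∈ UM (F := F), psi X * u = u * psi X → u = 1

theorem UP_le_group : UP (F := F) ≤ chevG2.group F :=
  UP_le_pos.trans ((le_sup_left : chevG2.posUnipotent F ≤ chevG2.borelSubgroup F).trans
    (borel_le_group goodG rootsG2))

theorem UM_le_group : UM (F := F) ≤ chevG2.group F := fun g hg => by
  have h := mul_mem (mul_mem (inv_mem nT_mem_group) (UP_le_group (mem_UM.1 hg))) (nT_mem_group (F := F))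
  convert h using 1
  group

theorem FPF.conj {X : GL (Fin 2) F} (h : FPF X) (P : GL (Fin 2) F) : FPF (P * X * P⁻¹) := by
  constructor <;> intro u hu e
  all_goals
    rw [map_mul, map_mul, map_inv] at e
    have e2 : psi X * ((psi P)⁻¹ * u * psi P) = (psi P)⁻¹ * u * psi P * psi X := by
      calc psi X * ((psi P)⁻¹ * u * psi P) = (psi P)⁻¹ * (psi P * psi X * (psi P)⁻¹ * u) * psi P := by group
        _ = _ := by rw [e]; group
  · have := h.1 _ (by simpa using levi_norm_UP (inv_mem (psi_mem_levi P)) hu) e2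
    exact conj_eq_one_iff.1 (show (psi P)⁻¹ * u * (psi P)⁻¹⁻¹ = 1 by rw [inv_inv, this])
  · have := h.2 _ (by simpa using levi_norm_UM (inv_mem (psi_mem_levi P)) hu) e2
    exact conj_eq_one_iff.1 (show (psi P)⁻¹ * u * (psi P)⁻¹⁻¹ = 1 by rw [inv_inv, this])

/-- `g` has a conjugate `v psi(M₁ M₂) u` with `M₁`, `M₂` conjugate to `X`. -/
def HasGood (X : GL (Fin 2) F) (g : GL chevG2.Idx F) : Prop :=
  ∃ k ∈ chevG2.group F, ∃ v ∈ UM (F := F), ∃ u ∈ UP (F := F), ∃ P Q : GL (Fin 2) F,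
    k * g * k⁻¹ = v * psi ((P * X * P⁻¹) * (Q * X * Q⁻¹)) * u

theorem cover_of_good [Finite F] {X : GL (Fin 2) F} (hX : FPF X) {g : GL chevG2.Idx F} (hg : HasGood X g) :
    ∃ a ∈ chevG2.group F, ∃ b ∈ chevG2.group F, g = a * psi X * a⁻¹ * (b * psi X * b⁻¹) := by
  obtain ⟨k, hk, v, hv, u, hu, P, Q, e⟩ := hg
  have := Fintype.ofFinite F
  classical
  haveI : Finite (UM (F := F)) := inferInstance
  haveI : Finite (UP (F := F)) := inferInstance
  obtain ⟨⟨a, ha, ea⟩, -⟩ := exists_conj_translate (A := UM (F := F)) (m := psi (P * X * P⁻¹))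
    (fun y hy => levi_norm_UM (psi_mem_levi _) hy)
    (fun y hy => by simpa using levi_norm_UM (inv_mem (psi_mem_levi (P * X * P⁻¹))) hy) (hX.conj P).2 hv
  obtain ⟨-, b, hb, eb⟩ := exists_conj_translate (A := UP (F := F)) (m := psi (Q * X * Q⁻¹))
    (fun y hy => levi_norm_UP (psi_mem_levi _) hy)
    (fun y hy => by simpa using levi_norm_UP (inv_mem (psi_mem_levi (Q * X * Q⁻¹))) hy) (hX.conj Q).1 hu
  refine ⟨k⁻¹ * a * psi P, mul_mem (mul_mem (inv_mem hk) (UM_le_group ha)) (psi_mem_group _),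
    k⁻¹ * b * psi Q, mul_mem (mul_mem (inv_mem hk) (UP_le_group hb)) (psi_mem_group _), ?_⟩
  rw [show g = k⁻¹ * (k * g * k⁻¹) * k by group, e, map_mul psi (P * X * P⁻¹),
    show v * (psi (P * X * P⁻¹) * psi (Q * X * Q⁻¹)) * u =
      (v * psi (P * X * P⁻¹)) * (psi (Q * X * Q⁻¹) * u) by group, ← ea, ← eb, map_mul, map_mul, map_inv,
    map_mul, map_mul, map_inv]
  group

/-- The product of two conjugates, inside the group. -/
theorem cover_group [Finite F] {X : GL (Fin 2) F} (hX : FPF X)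
    (hgood : ∀ g ∈ chevG2.group F, g ≠ 1 → HasGood X g) (g : chevG2.group F) (hg : g ≠ 1) :
    ∃ u v : chevG2.group F, g = (u * ⟨psi X, psi_mem_group X⟩ * u⁻¹) * (v * ⟨psi X, psi_mem_group X⟩ * v⁻¹) := by
  obtain ⟨a, ha, b, hb, e⟩ := cover_of_good hX (hgood g g.2 fun h => hg (Subtype.ext h))
  exact ⟨⟨a, ha⟩, ⟨b, hb⟩, Subtype.ext (by simpa using e)⟩

theorem not_dvd_orderOf [Fintype F] (p : ℕ) [Fact p.Prime] [CharP F p] (X : GL (Fin 2) F)
    (hX : ∃ n : ℕ, ¬ p ∣ n ∧ X ^ n = 1) : ¬ p ∣ orderOf (⟨psi X, psi_mem_group X⟩ : chevG2.group F) := by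
  obtain ⟨n, hn, e⟩ := hX
  intro h
  refine hn (h.trans (orderOf_dvd_of_pow_eq_one (Subtype.ext ?_)))
  rw [Subgroup.coe_pow, Subgroup.coe_one, ← map_pow, e, map_one]

/-! ### Regular torus elements -/

theorem regular_fixed {h : GL chevG2.Idx F} (χ : ℕ → F)
    (hχ : ∀ r, chevG2.IsPosRoot r → χ r ≠ 1 ∧ ∀ t, h * xg goodG F r t * h⁻¹ = xg goodG F r (χ r * t))
    {u : GL chevG2.Idx F} (hu : u ∈ chevG2.posUnipotent F) (hc : h * u = u * h) : u = 1 := by
  obtain ⟨o, ho⟩ := goodG.order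
  set S := ChevOrder.matSys chevG2 goodG F
  have hmem : u ∈ S.genBy {q | q ∈ chevG2.posRoots} := by
    refine (Subgroup.closure_le _).2 ?_ hu
    rintro g ⟨r, t, hr, e⟩
    refine Subgroup.subset_closure ⟨r, ?_, t, Units.ext (e.trans ?_)⟩
    · show r ∈ chevG2.posRoots
      simp only [posRoots, List.mem_filter, List.mem_range]
      exact ⟨hr.1, decide_eq_true hr⟩
    · exact (coe_xg goodG r t).symm
  obtain ⟨c, -, rfl⟩ := UProd.exists_prod goodG ho _ (UProd.seg_posRoots ho) u hmem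
  have hpos : ∀ r ∈ chevG2.posRoots, chevG2.IsPosRoot r := fun r hr => by
    simp only [posRoots, List.mem_filter, List.mem_range, decide_eq_true_eq] at hr
    exact hr.2
  have e : ((chevG2.posRoots).map fun r => S.x r (χ r * c r)).prod =
      ((chevG2.posRoots).map fun r => S.x r (c r)).prod := by
    conv_rhs => rw [← mul_inv_eq_of_eq_mul hc, ← MulAut.conj_apply, map_list_prod, List.map_map]
    refine congrArg List.prod (List.map_congr_left fun r hr => ?_)
    show xg goodG F r _ = h * xg goodG F r (c r) * h⁻¹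
    rw [(hχ r (hpos r hr)).2]
  have h0 := UProd.prod_inj goodG ho _ (UProd.seg_posRoots ho) _ _ e
  refine List.prod_eq_one fun g hg => ?_
  obtain ⟨r, hr, rfl⟩ := List.mem_map.1 hg
  have hc0 : c r = 0 := by
    have := h0 r hr
    have h1 := (hχ r (hpos r hr)).1
    have : (χ r - 1) * c r = 0 := by linear_combination this
    exact (mul_eq_zero.1 this).resolve_left (sub_ne_zero.2 h1)
  show xg goodG F r (c r) = 1
  rw [hc0, xg_zero]

theorem cartan_table : (List.range 12).map (fun r => (chevG2.cartan 0 r, chevG2.cartan 1 r)) =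
    [(0, -1), (-3, 1), (-1, 0), (1, -1), (-2, 1), (3, -2), (-3, 2), (2, -1), (-1, 1), (1, 0), (3, -1), (0, 1)] := by
  decide +kernel

/-- The character of the root `r` at `tor a b`. -/
def rootVal (a b : Fˣ) (r : ℕ) : Fˣ := a ^ chevG2.cartan 0 r * b ^ chevG2.cartan 1 r

theorem tor_conj (a b : Fˣ) {r : ℕ} (hr : r < 12) (t : F) :
    tor a b * xg goodG F r t * (tor a b)⁻¹ = xg goodG F r ((rootVal a b r : Fˣ) * t) := by
  have hb : tor (1 : Fˣ) b = hg goodG F 6 (b : F) := (hg_six b).symm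
  have ha : tor a (1 : Fˣ) = hg goodG F 7 (a : F) := (hg_seven a).symm
  have p7 : ∀ q < 12, chevG2.pairing 7 q = chevG2.cartan 0 q ∧ chevG2.pairing 6 q = chevG2.cartan 1 q := by
    decide +kernel
  rw [show tor a b = tor a 1 * tor 1 b by rw [tor_mul, mul_one, one_mul], ha, hb,
    show ∀ A B x : GL chevG2.Idx F, A * B * x * (A * B)⁻¹ = A * (B * x * B⁻¹) * A⁻¹ from fun A B x => by group,
    hg_conj goodG (lt12 (by norm_num)) b.ne_zero, mul_inv_cancel_right,
    hg_conj goodG (lt12 (by norm_num)) a.ne_zero, mul_inv_cancel_right, (p7 r hr).1, (p7 r hr).2, rootVal]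
  congr 1
  push_cast
  ring

theorem fpf_dgl {l m : Fˣ} (h1 : l ≠ m) (h2 : l ≠ 1) (h3 : m ≠ 1) (h4 : l * m ≠ 1) (h5 : l ^ 2 ≠ m)
    (h6 : m ^ 2 ≠ l) : FPF (dgl l m) := by
  have k11 : ∀ s : ℤ, s = 1 ∨ s = -1 → l ^ s * m ^ s ≠ 1 := by
    rintro s (rfl | rfl) e
    · exact h4 (by simpa using e)
    · exact h4 (by rw [← mul_zpow, _root_.zpow_neg_one] at e; exact inv_eq_one.1 e)
  have kk : ∀ (s x y : ℤ), s = 1 ∨ s = -1 → (x, y) ∈ [((2 : ℤ), (-1 : ℤ)), (1, -1), (0, 1), (1, 0), (-1, 2)] →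
      l ^ (s * x) * m ^ (s * y) ≠ 1 := by
    intro s x y hs hxy e
    have e' : l ^ x * m ^ y = 1 := by
      rcases hs with rfl | rfl
      · simpa using e
      · rw [neg_one_mul, neg_one_mul, _root_.zpow_neg, _root_.zpow_neg, ← _root_.mul_inv] at e
        exact inv_eq_one.1 e
    simp only [List.mem_cons, Prod.mk.injEq, List.not_mem_nil, or_false] at hxy
    rcases hxy with ⟨rfl, rfl⟩ | ⟨rfl, rfl⟩ | ⟨rfl, rfl⟩ | ⟨rfl, rfl⟩ | ⟨rfl, rfl⟩
    · exact h5 (mul_inv_eq_one.1 (by simpa using e'))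
    · exact h1 (mul_inv_eq_one.1 (by simpa using e'))
    · exact h3 (by simpa using e')
    · exact h2 (by simpa using e')
    · exact h6 (inv_mul_eq_one.1 (by simpa using e')).symm
  have hreg : ∀ r < 12, rootVal l (l * m) r ≠ 1 := by
    intro r hr e
    have hv := congrArg (fun L => L.getD r (0, 0)) cartan_table
    simp only [rootVal] at e
    rw [mul_zpow, ← mul_assoc, ← _root_.zpow_add] at e
    interval_cases r <;> simp [List.getD, Prod.ext_iff] at hv <;> rw [hv.1, hv.2] at e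
    · exact k11 (-1) (Or.inr rfl) e
    · exact kk (-1) 2 (-1) (Or.inr rfl) (by simp) (by norm_num at e ⊢; exact e)
    · exact kk (-1) 1 0 (Or.inr rfl) (by simp) (by norm_num at e ⊢; exact e)
    · exact kk (-1) 0 1 (Or.inr rfl) (by simp) (by norm_num at e ⊢; exact e)
    · exact kk (-1) 1 (-1) (Or.inr rfl) (by simp) (by norm_num at e ⊢; exact e)
    · exact kk (-1) (-1) 2 (Or.inr rfl) (by simp) (by norm_num at e ⊢; exact e)
    · exact kk 1 (-1) 2 (Or.inl rfl) (by simp) (by norm_num at e ⊢; exact e)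
    · exact kk 1 1 (-1) (Or.inl rfl) (by simp) (by norm_num at e ⊢; exact e)
    · exact kk 1 0 1 (Or.inl rfl) (by simp) (by norm_num at e ⊢; exact e)
    · exact kk 1 1 0 (Or.inl rfl) (by simp) (by norm_num at e ⊢; exact e)
    · exact kk 1 2 (-1) (Or.inl rfl) (by simp) (by norm_num at e ⊢; exact e)
    · exact k11 1 (Or.inl rfl) e
  rw [FPF, psi_dgl]
  refine ⟨fun u hu e => regular_fixed (fun r => ((rootVal l (l * m) r : Fˣ) : F)) (fun r hr => ?_) (UP_le_pos hu) e,
    fun u hu e => ?_⟩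
  · have h12 : r < 12 := hr.1.trans_le nroots_G2.le
    exact ⟨fun h => hreg r h12 (Units.ext h), tor_conj _ _ h12⟩
  · set h' := nT * tor l (l * m) * (nT (F := F))⁻¹
    have e' : h' * (nT * u * nT⁻¹) = nT * u * nT⁻¹ * h' := by
      calc h' * (nT * u * nT⁻¹) = nT * (tor l (l * m) * u) * nT⁻¹ := by simp only [h']; group
        _ = _ := by rw [e]; simp only [h']; group
    have := regular_fixed (h := h') (fun r => ((rootVal l (l * m) (Chev.refl chevG2 11 r) : Fˣ) : F)) (fun r hr => ?_)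
      (UP_le_pos (mem_UM.1 hu)) e'
    · exact conj_eq_one_iff.1 this
    · have h12 : r < 12 := hr.1.trans_le nroots_G2.le
      have hs := (refl11_table r h12).1
      refine ⟨fun h => hreg _ hs (Units.ext h), fun t => ?_⟩
      obtain ⟨-, c, hc, hcu⟩ := perms_nT (F := F) (Chev.refl chevG2 11 r) (lt12 hs)
      rw [refl_refl_G2 11 (by norm_num) r h12] at hcu
      have e1 : (nT (F := F))⁻¹ * xg goodG F r t * nT = xg goodG F (Chev.refl chevG2 11 r) (c⁻¹ * t) := by
        have := hcu (c⁻¹ * t)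
        rw [← mul_assoc c, mul_inv_cancel₀ hc, one_mul] at this
        rw [← this]; group
      rw [show h' * xg goodG F r t * h'⁻¹ =
        nT * (tor l (l * m) * ((nT (F := F))⁻¹ * xg goodG F r t * nT) * (tor l (l * m))⁻¹) * nT⁻¹ by
          simp only [h']; group, e1, tor_conj _ _ hs, hcu]
      congr 1
      field_simp

theorem exists_split [Fintype F] (p : ℕ) [Fact p.Prime] [CharP F p] (h7 : 7 ≤ Fintype.card F) :
    ∃ x : chevG2.group F, ¬ p ∣ orderOf x ∧ ∀ g : chevG2.group F, g ≠ 1 →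
      ∃ u v : chevG2.group F, g = (u * x * u⁻¹) * (v * x * v⁻¹) := by
  classical
  obtain ⟨l, hl⟩ := IsCyclic.exists_generator (α := Fˣ)
  have hord : orderOf l = Fintype.card F - 1 := by
    rw [orderOf_eq_card_of_forall_mem_zpowers hl, Nat.card_eq_fintype_card, Fintype.card_units]
  have hne : ∀ k : ℕ, 0 < k → k < Fintype.card F - 1 → l ^ k ≠ 1 := fun k hk hk' =>
    pow_ne_one_of_lt_orderOf hk.ne' (hord ▸ hk')
  have hF : ∃ a : F, a ≠ 0 ∧ a ≠ 1 :=
    ⟨l, l.ne_zero, fun h => hne 1 one_pos (by omega) (by rw [pow_one]; exact Units.ext h)⟩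
  have hn1 := hne 1 one_pos (by omega)
  have hn2 := hne 2 (by norm_num) (by omega)
  have hn4 := hne 4 (by norm_num) (by omega)
  have hn5 := hne 5 (by norm_num) (by omega)
  rw [pow_one] at hn1
  obtain ⟨m, hm, hfpf⟩ : ∃ m : Fˣ, (l ≠ m ∧ ((m : F) = -l ∨ (2 : F) = 0)) ∧ FPF (dgl l m) := by
    by_cases h2 : (2 : F) = 0
    · refine ⟨l ^ 3, ⟨fun h => hn2 ?_, Or.inr h2⟩, fpf_dgl ?_ hn1 (hne 3 (by norm_num) (by omega)) ?_ ?_ ?_⟩
      · exact mul_left_cancel (a := l) (by rw [mul_one, ← pow_succ', ← h])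
      · exact fun h => hn2 (mul_left_cancel (a := l) (by rw [mul_one, ← pow_succ', ← h]))
      · rw [← pow_succ']; exact hn4
      · exact fun h => hn1 (mul_left_cancel (a := l ^ 2) (by rw [mul_one, ← pow_succ, ← h]))
      · intro h
        refine hn5 (mul_left_cancel (a := l) ?_)
        rw [mul_one, ← pow_succ']
        rw [← pow_mul] at h
        exact h
    · refine ⟨-l, ⟨?_, Or.inl (by simp)⟩, fpf_dgl ?_ hn1 ?_ ?_ ?_ ?_⟩
      all_goals intro h; have h' := congrArg Units.val h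
      all_goals push_cast at h'
      · exact mul_ne_zero h2 l.ne_zero (by linear_combination h')
      · exact mul_ne_zero h2 l.ne_zero (by linear_combination h')
      · refine hn2 (Units.ext ?_); push_cast; linear_combination ((-(l : F)) + 1) * h'
      · refine hn4 (Units.ext ?_); push_cast; linear_combination (1 - (l : F) ^ 2) * h'
      · refine hn2 (Units.ext ?_)
        have e : (l : F) = -1 := mul_left_cancel₀ l.ne_zero (by linear_combination h')
        push_cast; rw [e]; ring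
      · refine hn1 (Units.ext ?_)
        push_cast
        exact mul_left_cancel₀ l.ne_zero (by linear_combination h')
  refine ⟨⟨psi (dgl l m), psi_mem_group _⟩, not_dvd_orderOf p _ ⟨Fintype.card F - 1, ?_, ?_⟩,
    cover_group hfpf fun g hg hg1 => ?_⟩
  · obtain ⟨n, hn⟩ := FiniteField.card F p
    intro hdvd
    have h1 : p ∣ Fintype.card F := by rw [hn.2]; exact dvd_pow_self p n.pos.ne'
    have := Nat.dvd_sub h1 hdvd
    rw [show Fintype.card F - (Fintype.card F - 1) = 1 by omega, Nat.dvd_one] at this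
    exact (Fact.out : p.Prime).ne_one this
  · have e : ∀ n : ℕ, dgl l m ^ n = dgl (l ^ n) (m ^ n) := fun n => by
      induction n with
      | zero => apply Units.ext; ext i j; fin_cases i <;> fin_cases j <;> simp [dgl]
      | succ n ih =>
        rw [pow_succ, ih]; apply Units.ext
        ext i j; fin_cases i <;> fin_cases j <;> simp [dgl, Matrix.mul_apply, Fin.sum_univ_two, pow_succ]
    rw [e, ← Fintype.card_units, pow_card_eq_one, pow_card_eq_one]
    apply Units.ext; ext i j; fin_cases i <;> fin_cases j <;> simp [dgl]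
  · obtain ⟨k, hk, hkc⟩ := exists_conj_coeff hF hg hg1 (((l : F) * m) ^ 2)
    obtain ⟨v, hv, M, u, hu, e, hdet⟩ := cell (mul_mem (mul_mem hk hg) (inv_mem hk))
      (by rw [hkc]; exact pow_ne_zero _ (mul_ne_zero l.ne_zero m.ne_zero))
    obtain ⟨P, Q, hM⟩ := exists_two_diag hm.1 hm.2 (M := M) (by rw [hdet, hkc])
    exact ⟨k, hk, v, hv, u, hu, P, Q, by rw [e, hM]⟩

end Cfsg.Agent.G2Thompson
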