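/-
The Levi part of an element of the big cell of G₂, seen by two by two minors.

* `gr`: the grading by the long fundamental root; `g1`: the four roots of grade one;
* `mu`, `Phi`: the minors and the sum of the diagonal ones;
* `good_cell`: in characteristic two a nonzero sum forces a Levi part of nonzero trace.
-/
import Cfsg.Agent.EqLemmas
import Cfsg.Agent.Lib.G2Thompson.Cover

set_option autoImplicit false
set_option linter.unusedSectionVars false
set_option maxRecDepth 100000

namespace Cfsg.Agent.G2Thompson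

open Cfsg.Lie Cfsg.Lie.ChevalleyDatum Cfsg.Agent.Chev Cfsg.Agent.ChevBN Cfsg.Agent.ChevSt Cfsg.Agent.ChevInvolOdd
  Cfsg.Agent.Chev.RankOne Cfsg.Agent.ChevOrder Cfsg.Agent.G2Invol Matrix
open scoped MatrixGroups

variable {F : Type*} [Field F]

local notation "Mx" g => (Units.val g : Matrix chevG2.Idx chevG2.Idx F)

/-- The coefficient of the long fundamental root. -/
def gr (q : ℕ) : ℤ := ChevBN.co chevG2 adjG2 1 q

theorem isLin_gr : IsLin chevG2 gr := isLin_co goodG adjG2 1

theorem gr_table : ∀ q < 12, gr q ≤ 2 ∧ (gr q = 2 ↔ q = 11) ∧ (gr q = 1 ↔ q = 6 ∨ q = 8 ∨ q = 9 ∨ q = 10) := by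
  decide +kernel

/-- The grade of an index. -/
def wg (a : chevG2.Idx) : ℤ := wt chevG2 gr a

/-- The roots of grade one. -/
def g1 : Fin 4 → ℕ := ![6, 8, 9, 10]

theorem g1_lt (i : Fin 4) : g1 i < 12 := by fin_cases i <;> decide

theorem g1_inj : Function.Injective g1 := by decide +kernel

/-- Their indices. -/
def I1 (i : Fin 4) : chevG2.Idx := ix (g1 i) (g1_lt i)

theorem I1_inj : Function.Injective I1 := fun i j h => g1_inj (by simpa [I1, ix] using h)

theorem wg_top : wg top = 2 := by decide +kernel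

theorem wg_I1 (i : Fin 4) : wg (I1 i) = 1 := by fin_cases i <;> decide +kernel

theorem I1_ne_top (i : Fin 4) : I1 i ≠ top := fun h => by
  have h1 := congrArg wg h
  rw [wg_I1, wg_top] at h1
  norm_num at h1

theorem wg_cases (a : chevG2.Idx) :
    wg a ≤ 2 ∧ (wg a = 2 → a = top) ∧ (wg a = 1 → ∃ i, a = I1 i) := by
  rcases a with i | ⟨q, hq⟩
  · refine ⟨?_, ?_, ?_⟩ <;> simp [wg, wt]
  · obtain ⟨h1, h2, h3⟩ := gr_table q (hq.trans_le nroots_G2.le)
    refine ⟨h1, fun h => ?_, fun h => ?_⟩
    · show Sum.inr _ = Sum.inr _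
      congr 1
      exact Fin.ext (h2.1 h)
    · rcases h3.1 h with rfl | rfl | rfl | rfl
      exacts [⟨0, rfl⟩, ⟨1, rfl⟩, ⟨2, rfl⟩, ⟨3, rfl⟩]

/-- The two by two minor on rows `i`, top and columns `j`, top. -/
def mu (g : GL chevG2.Idx F) (i j : Fin 4) : F :=
  (Mx g) (I1 i) (I1 j) * (Mx g) top top - (Mx g) (I1 i) top * (Mx g) top (I1 j)

/-- The sum of the diagonal minors. -/
def Phi (g : GL chevG2.Idx F) : F := ∑ i, mu g i i

/-- The trace on grade one. -/
def tb (g : GL chevG2.Idx F) : F := ∑ i, (Mx g) (I1 i) (I1 i)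

/-! ### Unitriangular factors -/

theorem UP_tri {u : GL chevG2.Idx F} (hu : u ∈ UP (F := F)) : UTri chevG2 gr (Mx u) := by
  refine uTri_closure goodG isLin_gr (Subgroup.closure_mono ?_ hu)
  rintro g ⟨r, t, hr, hJ, e⟩
  refine ⟨r, t, hr.1, ?_, e⟩
  have key : ∀ r < 12, chevG2.IsPosRoot r → r ≠ 7 → 0 < gr r := by decide +kernel
  exact key r (hr.1.trans_le nroots_G2.le) hr fun h => hJ (inRootSub_iff_G2.2 (Or.inl h))

theorem UM_tri {v : GL chevG2.Idx F} (hv : v ∈ UM (F := F)) : UTri chevG2 (fun q => -gr q) (Mx v) := by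
  have hf : IsLin chevG2 fun q => -gr q := by simpa using isLin_gr.smul (-1)
  refine uTri_closure goodG hf ?_
  have h : ∀ y ∈ UP (F := F), nT⁻¹ * y * nT ∈ Subgroup.closure {g : GL chevG2.Idx F | ∃ (r : ℕ) (t : F),
      r < chevG2.nroots ∧ 0 < -gr r ∧ (g : Matrix chevG2.Idx chevG2.Idx F) = chevG2.x F r t} := by
    intro y hy
    induction hy using Subgroup.closure_induction with
    | mem y hy =>
      obtain ⟨r, t, hr, hrJ, e⟩ := hy
      obtain rfl : y = xg goodG F r t := Units.ext e
      have hr12 : r < 12 := hr.1.trans_le nroots_G2.le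
      obtain ⟨c, -, hc⟩ := ((perms_ng goodG (lt12 (q := 11) (by norm_num)) (neg_ne_zero.2 (one_ne_zero (α := F))))
        r hr.1).2
      rw [show (nT (F := F))⁻¹ * xg goodG F r t * nT = ng goodG F 11 (-1) * xg goodG F r t * (ng goodG F 11 (-1))⁻¹ by
        rw [nT, ng_inv goodG 11 (-1 : F), ng_inv, _root_.neg_neg], hc t]
      have key : ∀ r < 12, chevG2.IsPosRoot r → r ≠ 7 →
          Chev.refl chevG2 11 r < 12 ∧ 0 < -gr (Chev.refl chevG2 11 r) := by decide +kernel
      obtain ⟨h1, h2⟩ := key r hr12 hr fun h => hrJ (inRootSub_iff_G2.2 (Or.inl h))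
      exact Subgroup.subset_closure ⟨_, _, lt12 h1, h2, coe_xg _ _ _⟩
    | one => simp
    | mul a b _ _ ha hb =>
      convert mul_mem ha hb using 1
      group
    | inv a _ ha =>
      convert inv_mem ha using 1
      group
  have := h _ (mem_UM.1 hv)
  convert this using 1
  group

theorem wt_neg (a : chevG2.Idx) : wt chevG2 (fun q => -gr q) a = -wg a := by
  rcases a with i | q <;> simp [wg, wt]

theorem row_top {v g : GL chevG2.Idx F} (hv : UTri chevG2 (fun q => -gr q) (Mx v)) (b : chevG2.Idx) :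
    (Mx (v * g)) top b = (Mx g) top b := by
  rw [Units.val_mul, Matrix.mul_apply, Finset.sum_eq_single top (fun k _ hk => ?_)
    (fun h => absurd (Finset.mem_univ _) h), hv.2, one_mul]
  by_contra h
  rcases hv.1 top k (left_ne_zero_of_mul h) with e | e
  · exact hk e.symm
  · rw [wt_neg, wt_neg, wg_top] at e
    have := (wg_cases k).1
    omega

theorem row_one {v g : GL chevG2.Idx F} (hv : UTri chevG2 (fun q => -gr q) (Mx v)) (i : Fin 4) (b : chevG2.Idx) :
    (Mx (v * g)) (I1 i) b = (Mx g) (I1 i) b + (Mx v) (I1 i) top * (Mx g) top b := by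
  rw [Units.val_mul, Matrix.mul_apply, ← Finset.sum_subset (Finset.subset_univ {I1 i, top}),
    Finset.sum_pair (I1_ne_top i), hv.2, one_mul]
  intro k _ hk
  simp only [Finset.mem_insert, Finset.mem_singleton, not_or] at hk
  by_contra h
  rcases hv.1 (I1 i) k (left_ne_zero_of_mul h) with e | e
  · exact hk.1 e.symm
  · rw [wt_neg, wt_neg, wg_I1] at e
    exact hk.2 ((wg_cases k).2.1 (by have := (wg_cases k).1; omega))

theorem col_top {g u : GL chevG2.Idx F} (hu : UTri chevG2 gr (Mx u)) (a : chevG2.Idx) :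
    (Mx (g * u)) a top = (Mx g) a top := by
  rw [Units.val_mul, Matrix.mul_apply, Finset.sum_eq_single top (fun k _ hk => ?_)
    (fun h => absurd (Finset.mem_univ _) h), hu.2, mul_one]
  by_contra h
  rcases hu.1 k top (right_ne_zero_of_mul h) with e | e
  · exact hk e
  · change wg top < wg k at e
    rw [wg_top] at e
    have := (wg_cases k).1
    omega

theorem col_one {g u : GL chevG2.Idx F} (hu : UTri chevG2 gr (Mx u)) (j : Fin 4) (a : chevG2.Idx) :
    (Mx (g * u)) a (I1 j) = (Mx g) a (I1 j) + (Mx g) a top * (Mx u) top (I1 j) := by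
  rw [Units.val_mul, Matrix.mul_apply, ← Finset.sum_subset (Finset.subset_univ {I1 j, top}),
    Finset.sum_pair (I1_ne_top j), hu.2, mul_one]
  intro k _ hk
  simp only [Finset.mem_insert, Finset.mem_singleton, not_or] at hk
  by_contra h
  rcases hu.1 k (I1 j) (right_ne_zero_of_mul h) with e | e
  · exact hk.1 e
  · change wg (I1 j) < wg k at e
    rw [wg_I1] at e
    exact hk.2 ((wg_cases k).2.1 (by have := (wg_cases k).1; omega))

theorem mu_left {v g : GL chevG2.Idx F} (hv : UTri chevG2 (fun q => -gr q) (Mx v)) (i j : Fin 4) :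
    mu (v * g) i j = mu g i j := by
  simp only [mu, row_top hv, row_one hv]; ring

theorem mu_right {g u : GL chevG2.Idx F} (hu : UTri chevG2 gr (Mx u)) (i j : Fin 4) :
    mu (g * u) i j = mu g i j := by
  simp only [mu, col_top hu, col_one hu]; ring

/-! ### Graded factors -/

/-- An element preserving the grading. -/
def Graded (g : GL chevG2.Idx F) : Prop := ∀ a b, (Mx g) a b ≠ 0 → wg a = wg b

theorem Graded.mul {g h : GL chevG2.Idx F} (hg : Graded g) (hh : Graded h) : Graded (g * h) := by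
  intro a b e
  rw [Units.val_mul, Matrix.mul_apply] at e
  obtain ⟨c, -, hc⟩ := Finset.exists_ne_zero_of_sum_ne_zero e
  exact (hg a c (left_ne_zero_of_mul hc)).trans (hh c b (right_ne_zero_of_mul hc))

theorem graded_tor (a b : Fˣ) : Graded (tor a b : GL chevG2.Idx F) := fun i j h => by
  rw [tor, coe_torusHom, dg] at h
  by_contra hne
  exact h (Matrix.diagonal_apply_ne _ fun e => hne (congrArg wg e))

theorem graded_xg {r : ℕ} (hr : r = 7 ∨ r = 4) (t : F) : Graded (xg goodG F r t) := by
  have hr' : r ∈ [7, 4] := by rcases hr with rfl | rfl <;> simp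
  have key : ∀ r ∈ [7, 4], gr r = 0 ∧ gr (chevG2.neg r) = 0 := by decide +kernel
  have key' : ∀ q ∈ [7, 4], ∀ u < 12, ∀ s < 12,
      (q = s ∨ chevG2.neg q = s ∨ (chevG2.chainCoeff q s u).isEmpty = true ∨ gr u = gr s) := by decide +kernel
  obtain ⟨k1, k2⟩ := key r hr'
  have k3 : ∀ u < 12, ∀ s < 12, s ≠ r → s ≠ chevG2.neg r → (chevG2.chainCoeff r s u).isEmpty = false → gr u = gr s :=
    fun u hu s hs h1 h2 h3 => by
      rcases key' r hr' u hu s hs with e | e | e | e
      · exact absurd e.symm h1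
      · exact absurd e.symm h2
      · exact absurd (e.symm.trans h3) (by simp)
      · exact e
  intro a b h
  rw [coe_xg, x_eq_xR chevG2 (lt12 (by rcases hr with rfl | rfl <;> norm_num))] at h
  rcases a with i | u <;> rcases b with j | s <;> simp only [wg, wt, Sum.elim_inl, Sum.elim_inr] <;>
    simp only [xR, Matrix.of_apply] at h
  · by_cases e : s.val = r
    · rw [e, k1]
    · by_cases e' : s.val = chevG2.neg r
      · rw [e', k2]
      · rw [if_neg e, if_neg e'] at h; exact absurd rfl h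
  · by_cases e : u.val = r
    · rw [e, k1]
    · rw [if_neg e] at h; exact absurd rfl h
  · by_cases e : s.val = r
    · rw [if_pos e] at h
      by_cases e2 : u.val = r
      · rw [e, e2]
      · rw [if_neg e2] at h; exact absurd rfl h
    · by_cases e' : s.val = chevG2.neg r
      · rw [if_neg e, if_pos e'] at h
        by_cases e2 : u = s
        · rw [e2]
        · by_cases e3 : u.val = r
          · rw [e', e3, k1, k2]
          · rw [if_neg e2, if_neg e3] at h; exact absurd rfl h
      · rw [if_neg e, if_neg e'] at h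
        by_cases e2 : u = s
        · rw [e2]
        · rw [if_neg e2, zero_add] at h
          refine k3 u.val (u.isLt.trans_le nroots_G2.le) s.val (s.isLt.trans_le nroots_G2.le) e e' ?_
          by_contra hn
          rw [Bool.not_eq_false, List.isEmpty_iff] at hn
          rw [hn] at h
          simp at h

theorem graded_psi (M : GL (Fin 2) F) : Graded (psi M) := by
  rw [psi_apply]
  refine Graded.mul ?_ (graded_tor _ _)
  exact sl2_induction (P := fun S => Graded (phiA S)) (fun t => by rw [phiA_X]; exact graded_xg (Or.inl rfl) t)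
    (fun t => by rw [phiA_Y]; exact graded_xg (Or.inr rfl) t) (fun a b ha hb => by rw [map_mul]; exact ha.mul hb) _

theorem sum_grade_one {f : chevG2.Idx → F} (hf : ∀ a, wg a ≠ 1 → f a = 0) : ∑ a, f a = ∑ i, f (I1 i) := by
  rw [← Finset.sum_image (f := f) I1_inj.injOn]
  refine (Finset.sum_subset (Finset.subset_univ _) fun a _ ha => hf a fun h => ha ?_).symm
  obtain ⟨i, rfl⟩ := (wg_cases a).2.2 h
  exact Finset.mem_image_of_mem _ (Finset.mem_univ i)

theorem graded_mul_one {g L : GL chevG2.Idx F} (hL : Graded L) (a : chevG2.Idx) (j : Fin 4) :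
    (Mx (g * L)) a (I1 j) = ∑ k, (Mx g) a (I1 k) * (Mx L) (I1 k) (I1 j) := by
  rw [Units.val_mul, Matrix.mul_apply]
  refine sum_grade_one fun k hk => ?_
  by_contra h
  exact hk ((hL _ _ (right_ne_zero_of_mul h)).trans (wg_I1 j))

theorem graded_mul_top {g L : GL chevG2.Idx F} (hL : Graded L) (a : chevG2.Idx) :
    (Mx (g * L)) a top = (Mx g) a top * (Mx L) top top := by
  rw [Units.val_mul, Matrix.mul_apply, Finset.sum_eq_single top (fun k _ hk => ?_)
    (fun h => absurd (Finset.mem_univ _) h)]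
  by_contra h
  exact hk ((wg_cases k).2.1 ((hL _ _ (right_ne_zero_of_mul h)).trans wg_top))

theorem mu_graded {g L : GL chevG2.Idx F} (hL : Graded L) (i j : Fin 4) :
    mu (g * L) i j = (Mx L) top top * ∑ k, mu g i k * (Mx L) (I1 k) (I1 j) := by
  simp only [mu, graded_mul_one hL, graded_mul_top hL, sub_mul, Finset.sum_sub_distrib, mul_sub, Finset.mul_sum,
    Finset.sum_mul]
  congr 1 <;> exact Finset.sum_congr rfl fun k _ => by ring

theorem tb_comm {g h : GL chevG2.Idx F} (hg : Graded g) (hh : Graded h) : tb (g * h) = tb (h * g) := by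
  simp only [tb, graded_mul_one hg, graded_mul_one hh]
  rw [Finset.sum_comm]
  exact Finset.sum_congr rfl fun k _ => Finset.sum_congr rfl fun i _ => mul_comm _ _

theorem Phi_cell {v u : GL chevG2.Idx F} (hv : v ∈ UM (F := F)) (hu : u ∈ UP (F := F)) (M : GL (Fin 2) F) :
    Phi (v * psi M * u) = (M : Matrix (Fin 2) (Fin 2) F).det * tb (psi M) := by
  have h0 : ∀ i, (Mx psi M) (I1 i) top = 0 := fun i => by
    rw [psi_col, if_neg (I1_ne_top i)]
  simp only [Phi, tb, mu_right (UP_tri hu), mu_left (UM_tri hv)]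
  simp only [mu, h0, zero_mul, sub_zero, psi_col M top, if_pos, Finset.mul_sum]
  exact Finset.sum_congr rfl fun i _ => mul_comm _ _

theorem tb_upper [CharP F 2] (r : Fˣ) (n : F) : tb (tor r (r * r) * xg goodG F 7 n : GL chevG2.Idx F) = 0 := by
  have hexp : ∀ i : Fin 4, chevG2.cartan 0 (g1 i) + 2 * chevG2.cartan 1 (g1 i) = 1 := by decide +kernel
  have hd : ∀ i, (Mx (tor r (r * r) * xg goodG F 7 n)) (I1 i) (I1 i) = (r : F) := fun i => by
    rw [Units.val_mul, tor, coe_torusHom, dg, Matrix.diagonal_mul]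
    have h1 : (Mx xg goodG F 7 n) (I1 i) (I1 i) = 1 := by
      have hmem : xg goodG F 7 n ∈ chevG2.posUnipotent F :=
        Subgroup.subset_closure ⟨7, n, by decide +kernel, coe_xg _ _ _⟩
      exact (uTri_pos goodG rootsG2 hmem).2 _
    rw [h1, mul_one]
    show ((chi (D := chevG2) (fun k => if k.val = 0 then r else r * r) (g1 i) : Fˣ) : F) = _
    congr 1
    rw [chi, ← Equiv.prod_comp (finCongr rank_G2.symm), Fin.prod_univ_two]
    show r ^ chevG2.cartan 0 (g1 i) * (r * r) ^ chevG2.cartan 1 (g1 i) = r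
    rw [← sq, ← zpow_natCast r 2, ← _root_.zpow_mul, ← _root_.zpow_add]
    norm_num [hexp i]
  simp only [tb, hd, Finset.sum_const, Finset.card_univ, Fintype.card_fin, nsmul_eq_mul]
  rw [show ((4 : ℕ) : F) = ((2 : ℕ) : F) * ((2 : ℕ) : F) by norm_num, CharP.cast_eq_zero F 2]
  simp

theorem tb_eq_zero_of_trace [Finite F] [CharP F 2] (M : GL (Fin 2) F)
    (ht : (M : Matrix (Fin 2) (Fin 2) F).trace = 0) : tb (psi M) = 0 := by
  obtain ⟨r, hr⟩ := FiniteField.isSquare_of_char_two (F := F) (ringChar.eq F 2) (M : Matrix (Fin 2) (Fin 2) F).det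
  have hr0 : r ≠ 0 := by
    rintro rfl
    exact (gdet M).ne_zero (by rw [coe_gdet, hr, zero_mul])
  set ru := Units.mk0 r hr0
  have htwo : (2 : F) = 0 := by exact_mod_cast CharP.cast_eq_zero F 2
  have upper : ∀ n : F, ∃ N : GL (Fin 2) F, (N : Matrix (Fin 2) (Fin 2) F) = !![r, r * n; 0, r] ∧
      tb (psi N) = 0 := fun n => by
    let S : GL (Fin 2) F := GeneralLinearGroup.mkOfDetNeZero (slX n).1 (by rw [(slX n).2]; exact one_ne_zero)
    refine ⟨dgl ru ru * S, ?_, ?_⟩
    · show !![(ru : F), 0; 0, ru] * (slX n).1 = _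
      ext i j; fin_cases i <;> fin_cases j <;> simp [slX, ru, Matrix.mul_apply, Fin.sum_univ_two]
    · rw [map_mul, psi_dgl, psi_apply S, (slPart_of_sl (slX n) (by rfl)).1, (slPart_of_sl (slX n) (by rfl)).2,
        tor_one, mul_one, phiA_X]
      exact tb_upper ru n
  obtain ⟨N, hN, hN0⟩ : ∃ N : GL (Fin 2) F, (∃ P, M = P * N * P⁻¹) ∧ tb (psi N) = 0 := by
    by_cases hns : NonScalar (M : Matrix (Fin 2) (Fin 2) F)
    · obtain ⟨N, hN, hN0⟩ := upper 1
      refine ⟨N, exists_conj_of_tr_det hns ?_ ?_ ?_, hN0⟩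
      · rw [hN]; exact Or.inr (Or.inl (by simpa using hr0))
      · rw [ht, hN, Matrix.trace_fin_two]; simp; linear_combination (-r) * htwo
      · rw [hr, hN, Matrix.det_fin_two]; simp
    · obtain ⟨N, hN, hN0⟩ := upper 0
      simp only [NonScalar, not_or, not_not] at hns
      obtain ⟨h10, h01, h00⟩ := hns
      refine ⟨N, ⟨1, ?_⟩, hN0⟩
      have h11 : (M : Matrix (Fin 2) (Fin 2) F) 1 1 = r := by
        rcases eq_or_eq_neg_of_sq_eq_sq ((M : Matrix (Fin 2) (Fin 2) F) 1 1) r (by
          rw [sq r, ← hr, Matrix.det_fin_two, h10, h01, h00]; ring) with e | e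
        · exact e
        · rw [e]; linear_combination (-r) * htwo
      rw [one_mul, inv_one, mul_one]
      apply Units.ext
      rw [hN]
      ext i j; fin_cases i <;> fin_cases j <;> simp [h10, h01, h00, h11]
  obtain ⟨P, rfl⟩ := hN
  rw [map_mul, map_mul, tb_comm ((graded_psi P).mul (graded_psi N)) (graded_psi _), ← mul_assoc, ← map_mul,
    inv_mul_cancel, map_one, one_mul, hN0]

theorem good_cell [Finite F] [CharP F 2] {g : GL chevG2.Idx F} (hg : g ∈ chevG2.group F)
    (hf : (Mx g) top top ≠ 0) (hP : Phi g ≠ 0) :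
    ∃ v ∈ UM (F := F), ∃ M : GL (Fin 2) F, ∃ u ∈ UP (F := F), g = v * psi M * u ∧
      (M : Matrix (Fin 2) (Fin 2) F).trace ≠ 0 := by
  obtain ⟨v, hv, M, u, hu, e, -⟩ := cell hg hf
  refine ⟨v, hv, M, u, hu, e, fun ht => hP ?_⟩
  rw [e, Phi_cell hv hu, tb_eq_zero_of_trace M ht, mul_zero]

end Cfsg.Agent.G2Thompson
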