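/-
G₂ over the field with four elements: a conjugate with a Levi part of nonzero trace.

* `certOK`: the finite check, on explicit products of three root elements;
* `exists_good_conj`: every nontrivial element has a conjugate in the big cell with Levi part of nonzero trace.
-/
import Cfsg.Agent.EqLemmas
import Cfsg.Agent.Lib.G2Thompson.Minor
import Cfsg.Agent.Lib.Unitary.Small32

set_option autoImplicit false
set_option linter.unusedSectionVars false
set_option maxRecDepth 100000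

namespace Cfsg.Agent.G2Thompson

open Cfsg.Lie Cfsg.Lie.ChevalleyDatum Cfsg.Agent.Chev Cfsg.Agent.ChevBN Cfsg.Agent.ChevSt Cfsg.Agent.ChevInvolOdd
  Cfsg.Agent.Chev.RankOne Cfsg.Agent.ChevOrder Cfsg.Agent.G2Invol Matrix Cfsg.Agent.Unitary
open scoped MatrixGroups

/-- The three products of root elements: roots, with `true` for a primitive cube root of unity. -/
def cxList : Fin 3 → List (ℕ × Bool) :=
  ![[(6, false), (8, false), (10, false)], [(6, true), (8, false), (10, true)],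
    [(8, true), (9, false), (10, false)]]

/-- Their matrices. -/
def cxMat (R : Type*) [CommRing R] (w : R) (k : Fin 3) : Matrix chevG2.Idx chevG2.Idx R :=
  ((cxList k).map fun p => xR chevG2 R p.1 (if p.2 then w else 1)).prod

/-- The rows of the roots 6, 8, 9, 10, 11. -/
def rowsN : Fin 5 → ℕ := ![6, 8, 9, 10, 11]

theorem rowsN_lt (i : Fin 5) : rowsN i < 12 := by fin_cases i <;> decide

/-- The table of those rows of the three matrices. -/
def cxTab : List (List (List GF4)) :=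
  [[[0, 1, 1, 1, 1, 1, 1, 0, 0, 0, 0, 0],
     [1, 0, 1, 1, 0, 1, 0, 1, 1, 0, 0, 0],
     [1, 0, 0, 0, 1, 1, 0, 0, 0, 1, 0, 0],
     [0, 1, 0, 0, 0, 0, 0, 0, 0, 0, 1, 0],
     [1, 1, 1, 0, 1, 1, 1, 1, 0, 1, 1, 1]],
   [[0, GF4.om2, 1, GF4.om, 1, GF4.om2, 1, 0, 0, 0, 0, 0],
     [GF4.om2, 0, GF4.om2, 1, 0, GF4.om, 0, GF4.om, 1, 0, 0, 0],
     [GF4.om, 0, 0, 0, GF4.om, 1, 0, 0, 0, 1, 0, 0],
     [0, GF4.om2, 0, 0, 0, 0, 0, 0, 0, 0, 1, 0],
     [GF4.om, 1, GF4.om, 0, GF4.om, 1, GF4.om, 1, 0, 1, GF4.om, 1]],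
   [[1, GF4.om, GF4.om2, 0, GF4.om, 0, 1, 0, 0, 0, 0, 0],
     [GF4.om2, 1, GF4.om, GF4.om2, 0, 0, 0, 0, 1, 0, 0, 0],
     [GF4.om2, 1, 1, 0, 1, GF4.om2, 0, 0, 0, 1, 0, 0],
     [1, 1, 1, 1, 0, 0, 0, 1, 0, 0, 1, 0],
     [GF4.om, GF4.om2, 1, 0, GF4.om2, 1, 1, GF4.om2, 1, GF4.om, 0, 1]]]

/-- The table, read. -/
def cxv (k : Fin 3) (i : Fin 5) (q : ℕ) : GF4 := ((cxTab.getD k.val []).getD i.val []).getD q 0

theorem cxv_eq : ∀ k : Fin 3, ∀ i : Fin 5, ∀ q : Fin 12,
    cxMat GF4 GF4.om k (ix (rowsN i) (rowsN_lt i)) (ix q.val q.isLt) = cxv k i q.val := by decide +kernel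

/-- The grade one block of the root element of the short fundamental root. -/
def tabU (s : GF4) : Fin 4 → Fin 4 → GF4 :=
  ![![1, 0, 0, 0], ![s, 1, 0, 0], ![s * s, 0, 1, 0], ![s * s * s, s * s, s, 1]]

theorem tabU_eq : ∀ s : GF4, ∀ i j : Fin 4, xR chevG2 GF4 7 s (I1 i) (I1 j) = tabU s i j := by decide +kernel

/-- The character of a root, with exponents modulo 3. -/
def rvG (a b : GF4) (q : ℕ) : GF4 :=
  a ^ (chevG2.cartan 0 q % 3).toNat * b ^ (chevG2.cartan 1 q % 3).toNat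

/-- The Weyl group elements moving the highest root. -/
def wordsN : List (List (Fin 2)) :=
  [[1], [1, 0], [0, 1], [0, 1, 0], [1, 0, 1], [1, 0, 1, 0], [0, 1, 0, 1], [0, 1, 0, 1, 0], [1, 0, 1, 0, 1],
    [1, 0, 1, 0, 1, 0]]

/-- The action of a word. -/
def wAct (l : List (Fin 2)) (q : ℕ) : ℕ := l.foldr (fun i p => wN chevG2 i.val p) q

theorem wAct_lt : ∀ l ∈ wordsN, ∀ q < 12, wAct l q < 12 := by decide +kernel

theorem wAct_surj : ∀ l ∈ wordsN, ∀ q : Fin 12, ∃ q' : Fin 12, wAct l q'.val = q.val := by decide +kernel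

theorem words_cover : ∀ p ∈ w12, (pf p 11 = 11 ∨ ∃ l ∈ wordsN, ∀ q < 12, wAct l q = pf p q) := by decide +kernel

/-- The sum of the diagonal minors of the candidate. -/
def certSum (k : Fin 3) (l : List (Fin 2)) (a b s : GF4) : GF4 :=
  ∑ i : Fin 4, ∑ j : Fin 4,
    (cxv k i.castSucc (wAct l (g1 j)) * rvG a b (wAct l (g1 j)) * (cxv k 4 (wAct l 11) * rvG a b (wAct l 11)) -
      cxv k i.castSucc (wAct l 11) * rvG a b (wAct l 11) * (cxv k 4 (wAct l (g1 j)) * rvG a b (wAct l (g1 j)))) *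
      tabU s j i

theorem certOK : ∀ l ∈ wordsN, ∀ a b s : GF4, a ≠ 0 → b ≠ 0 →
    ∃ k : Fin 3, cxv k 4 (wAct l 11) ≠ 0 ∧ certSum k l a b s ≠ 0 := by decide +kernel

variable {F : Type*} [Field F]

local notation "Mx" g => (Units.val g : Matrix chevG2.Idx chevG2.Idx F)
local notation "RR" => chevRGD goodG rootsG2 F

theorem nw_col2 [CharP F 2] (l : List (Fin chevG2.rank)) {q : ℕ} (hq : q < 12) :
    ∃ (γ : ℕ) (h : γ < 12), γ = l.foldr (fun i p => wN chevG2 i.val p) q ∧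
      ∀ a, (Mx ((RR).nw l)) a (ix q hq) = if a = ix γ h then 1 else 0 := by
  induction l with
  | nil => exact ⟨q, hq, rfl, fun a => by
      rw [show (RR).nw [] = 1 from rfl, Units.val_one, Matrix.one_apply]⟩
  | cons i l ih =>
    obtain ⟨γ, hγ, e, hcol⟩ := ih
    have hi := goodG.simple_lt i.val i.isLt
    have hγ' : Chev.refl chevG2 (chevG2.simple i.val) γ < 12 :=
      (refl_lt goodG hi (lt12 hγ)).trans_le nroots_G2.le
    have hη : (nSign chevG2 (chevG2.simple i.val) γ : F) * (1 : F) ^ (-chevG2.pairing (chevG2.simple i.val) γ) = 1 := by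
      rcases (ChevBN.nSign_cases goodG hi (lt12 hγ)).1 with h | h <;> rw [h] <;> simp [CharTwo.neg_eq]
    refine ⟨Chev.refl chevG2 (chevG2.simple i.val) γ, hγ', ?_, fun a => ?_⟩
    · rw [List.foldr_cons, ← e]; rfl
    · rw [show (RR).nw (i :: l) = ng goodG F (chevG2.simple i.val) 1 * (RR).nw l from rfl, col_mul' hcol, mul_one]
      have h := congrFun (goodG.n_root hi (lt12 hγ) (one_ne_zero (α := F))) a
      rw [mulVec_ev chevG2 _ (lt12 hγ), hη] at h
      rw [coe_ng, show chevG2.nMat F (chevG2.simple i.val) 1 a (ix γ hγ) = _ from h, ev_of_lt chevG2 F (lt12 hγ')]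
      simp only [ix, Pi.smul_apply, smul_eq_mul, one_mul, Pi.single_apply]
      split_ifs <;> simp_all

theorem exists_split_pos {u : GL chevG2.Idx F} (hu : u ∈ chevG2.posUnipotent F) :
    ∃ s : F, ∃ u₁ ∈ UP (F := F), u = xg goodG F 7 s * u₁ := by
  have hn : ∀ (s : F) (w : GL chevG2.Idx F), w ∈ UP (F := F) →
      xg goodG F 7 s * w * (xg goodG F 7 s)⁻¹ ∈ UP (F := F) := fun s w hw => levi_norm_UP
    (Subgroup.mem_sup_right (Subgroup.subset_closure ⟨7, s, inRootSub_iff_G2.2 (Or.inl rfl), coe_xg _ _ _⟩)) hw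
  refine Subgroup.closure_induction (p := fun x _ => ∃ s : F, ∃ u₁ ∈ UP (F := F), x = xg goodG F 7 s * u₁) ?_
    ⟨0, 1, one_mem _, by rw [xg_zero, mul_one]⟩ ?_ ?_ hu
  · rintro g ⟨r, t, hr, e⟩
    obtain rfl : g = xg goodG F r t := Units.ext e
    by_cases h7 : r = 7
    · subst h7; exact ⟨t, 1, one_mem _, by rw [mul_one]⟩
    · exact ⟨0, _, mem_UP_of hr h7 t, by rw [xg_zero, one_mul]⟩
  · rintro x y - - ⟨s, w, hw, rfl⟩ ⟨s', w', hw', rfl⟩
    refine ⟨s + s', _, mul_mem (hn (-s') w hw) hw', ?_⟩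
    rw [← xg_add goodG (lt12 (by norm_num)), ← xg_inv goodG 7 s']
    group
  · rintro x - ⟨s, w, hw, rfl⟩
    refine ⟨-s, _, hn s w⁻¹ (inv_mem hw), ?_⟩
    rw [← xg_inv goodG 7 s]
    group

theorem zpow_of_cube {a : Fˣ} (ha : a ^ 3 = 1) (z : ℤ) : a ^ z = a ^ (z % 3).toNat := by
  conv_lhs => rw [show z = z % 3 + 3 * (z / 3) by omega]
  rw [_root_.zpow_add, _root_.zpow_mul, show a ^ (3 : ℤ) = a ^ (3 : ℕ) from zpow_natCast a 3, ha, _root_.one_zpow,
    mul_one, ← zpow_natCast, Int.toNat_of_nonneg (Int.emod_nonneg _ (by norm_num))]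

/-- The element of the given product. -/
def cxElt (w : F) (k : Fin 3) : GL chevG2.Idx F :=
  ((cxList k).map fun p => xg goodG F p.1 (if p.2 then w else 1)).prod

theorem coe_cxElt (w : F) (k : Fin 3) : (Mx cxElt w k) = cxMat F w k := by
  have h : ∀ l : List (ℕ × Bool), (∀ p ∈ l, p.1 < 12) →
      (Mx (l.map fun p => xg goodG F p.1 (if p.2 then w else 1)).prod) =
        (l.map fun p => xR chevG2 F p.1 (if p.2 then w else 1)).prod := fun l hl => by
    induction l with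
    | nil => simp
    | cons p l ih =>
      rw [List.map_cons, List.prod_cons, Units.val_mul, List.map_cons, List.prod_cons,
        ih fun q hq => hl q (List.mem_cons_of_mem _ hq), coe_xg, x_eq_xR chevG2 (lt12 (hl p (by simp)))]
  have key : ∀ k : Fin 3, ∀ p ∈ cxList k, p.1 < 12 := by decide +kernel
  exact h _ (key k)

theorem cxElt_mem (w : F) (k : Fin 3) : cxElt w k ∈ UP (F := F) := by
  have key : ∀ k : Fin 3, ∀ p ∈ cxList k, p.1 ∈ [6, 8, 9, 10] := by decide +kernel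
  have key' : ∀ r ∈ [6, 8, 9, 10], chevG2.IsPosRoot r ∧ r ≠ 7 := by decide +kernel
  refine list_prod_mem fun g hg => ?_
  obtain ⟨p, hp, rfl⟩ := List.mem_map.1 hg
  obtain ⟨h1, h2⟩ := key' _ (key k p hp)
  exact mem_UP_of h1 h2 _

theorem cxMat_map {R S : Type*} [CommRing R] [CommRing S] (f : R →+* S) (w : R) (k : Fin 3) :
    (cxMat R w k).map f = cxMat S (f w) k := by
  show f.mapMatrix _ = _
  rw [cxMat, map_list_prod, cxMat, List.map_map]
  congr 1
  refine List.map_congr_left fun p _ => ?_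
  simp only [Function.comp_apply, RingHom.mapMatrix_apply, xR_map]
  split <;> simp

variable [Fintype F] [CharP F 2]

/-- A conjugate in the big cell with Levi part of nonzero trace. -/
theorem exists_good_conj (φ : GF4 ≃+* F) {g : GL chevG2.Idx F} (hg : g ∈ chevG2.group F) (h1 : g ≠ 1) :
    ∃ k ∈ chevG2.group F, ∃ v ∈ UM (F := F), ∃ M : GL (Fin 2) F, ∃ u ∈ UP (F := F),
      k * g * k⁻¹ = v * psi M * u ∧ (M : Matrix (Fin 2) (Fin 2) F).trace ≠ 0 := by
  classical
  have hF : ∃ a : F, a ≠ 0 ∧ a ≠ 1 := ⟨φ GF4.om, (map_ne_zero φ).2 (by decide +kernel),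
    fun h => absurd (φ.injective (h.trans (map_one φ).symm)) (by decide +kernel)⟩
  obtain ⟨k₀, hk₀, hnot⟩ := exists_conj_not_fix hF hg h1
  obtain ⟨v, hv, h, hh, m, hm, u, hu, e, p, c, hγ, hp, hP, -, hcol⟩ :=
    exists_bruhat (mul_mem (mul_mem hk₀ hg) (inv_mem hk₀))
  rcases words_cover p hp with h11 | ⟨l, hl, hlp⟩
  · refine absurd ⟨c, fun a => ?_⟩ hnot
    rw [e, show v * h * m * u = v * (h * m * u) by group, col_mul' hcol]
    simp only [h11, show ix 11 (by norm_num) = top from rfl]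
    rw [pos_col hv]
    split <;> simp
  -- the monomial part is a torus element times the word
  let L : List (Fin chevG2.rank) := l.map (finCongr rank_G2.symm)
  have hL : ∀ q, L.foldr (fun i p => wN chevG2 i.val p) q = wAct l q := fun q => by
    simp only [L, List.foldr_map, wAct]
    rfl
  set n := (RR).nw L
  have hPn : Perms goodG n (wAct l) := (perms_word goodG rootsG2 L).congr goodG fun q _ => hL q
  have hPm : Perms goodG (h * m) (wAct l) :=
    ((perms_diag goodG hh).mul goodG hP).congr goodG fun q hq => (hlp q (hq.trans_le nroots_G2.le)).symm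
  have hdiag : h * m * n⁻¹ ∈ chevG2.diagonalSubgroup F := by
    refine mem_diag_of_perms goodG rootsG2
      (mul_mem (mul_mem ((RR).H_le_N hh) hm) (inv_mem ((RR).nw_mem_N L))) fun q hq => ?_
    obtain ⟨⟨q', hq'⟩, hqq⟩ := wAct_surj l hl ⟨q, hq.trans_le nroots_G2.le⟩
    simp only at hqq
    subst hqq
    obtain ⟨-, c1, hc1, hcu1⟩ := hPn q' (lt12 hq')
    obtain ⟨-, c2, hc2, hcu2⟩ := hPm q' (lt12 hq')
    refine ⟨hq, c2 * c1⁻¹, mul_ne_zero hc2 (inv_ne_zero hc1), fun t => ?_⟩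
    have e1 : n⁻¹ * xg goodG F (wAct l q') t * n = xg goodG F q' (c1⁻¹ * t) := by
      have := hcu1 (c1⁻¹ * t)
      rw [← mul_assoc c1, mul_inv_cancel₀ hc1, one_mul] at this
      rw [← this]; group
    rw [show h * m * n⁻¹ * xg goodG F (wAct l q') t * (h * m * n⁻¹)⁻¹ =
      h * m * (n⁻¹ * xg goodG F (wAct l q') t * n) * (h * m)⁻¹ by group, e1, hcu2, mul_assoc]
    rfl
  obtain ⟨a, b, hab⟩ := exists_tor hdiag
  have hcube : ∀ x : Fˣ, x ^ 3 = 1 := fun x => by
    have h4 : Fintype.card F = 4 := by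
      rw [← Fintype.card_congr φ.toEquiv, GF4.card]
      norm_num
    rw [show (3 : ℕ) = Fintype.card Fˣ by rw [Fintype.card_units, h4]]
    exact pow_card_eq_one
  set a' := φ.symm (a : F) with ha'
  set b' := φ.symm (b : F) with hb'
  have hrv : ∀ q, ((rootVal a b q : Fˣ) : F) = φ (rvG a' b' q) := fun q => by
    rw [rootVal, zpow_of_cube (hcube a), zpow_of_cube (hcube b), rvG, map_mul, map_pow, map_pow, ha', hb',
      RingEquiv.apply_symm_apply, RingEquiv.apply_symm_apply, Units.val_mul, Units.val_pow_eq_pow_val,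
      Units.val_pow_eq_pow_val]
  have hhm : ∀ q (hq : q < 12) (x : chevG2.Idx),
      (Mx (h * m)) x (ix q hq) = if x = ix (wAct l q) (wAct_lt l hl q hq) then φ (rvG a' b' (wAct l q)) else 0 := by
    intro q hq x
    obtain ⟨γ, hγ', e', hn⟩ := nw_col2 (F := F) L hq
    obtain rfl : γ = wAct l q := e'.trans (hL q)
    rw [show h * m = tor a b * n by rw [← hab]; group, col_mul' hn, mul_one, tor, coe_torusHom, dg,
      Matrix.diagonal_apply, ← hrv]
    split
    · next hx =>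
      subst hx
      show ((ChevOrder.chi (D := chevG2) (fun i => if i.val = 0 then a else b) (wAct l q) : Fˣ) : F) = _
      congr 1
      rw [ChevOrder.chi, ← Equiv.prod_comp (finCongr rank_G2.symm), Fin.prod_univ_two]
      rfl
    · rfl
  obtain ⟨s, u₀, hu₀, huv⟩ := exists_split_pos (mul_mem hu hv)
  obtain ⟨k, hk1, hk2⟩ := certOK l hl a' b' (φ.symm s)
    (by simp [a', a.ne_zero]) (by simp [b', b.ne_zero])
  set x := cxElt (φ GF4.om) k
  have hX : ∀ (i : Fin 5) (q : ℕ) (hq : q < 12), (Mx x) (ix (rowsN i) (rowsN_lt i)) (ix q hq) = φ (cxv k i q) :=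
    fun i q hq => by
      rw [coe_cxElt, show cxMat F (φ GF4.om) k = (cxMat GF4 GF4.om k).map φ.toRingHom from
        (cxMat_map φ.toRingHom GF4.om k).symm, Matrix.map_apply, cxv_eq k i ⟨q, hq⟩]
      rfl
  have hU : ∀ i j, (Mx xg goodG F 7 s) (I1 i) (I1 j) = φ (tabU (φ.symm s) i j) := fun i j => by
    rw [coe_xg, x_eq_xR chevG2 (lt12 (by norm_num)), ← tabU_eq,
      show s = φ.toRingHom (φ.symm s) from (φ.apply_symm_apply s).symm, ← xR_map, Matrix.map_apply]
    simp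
  set g' := x * (v⁻¹ * k₀) * g * (x * (v⁻¹ * k₀))⁻¹
  have hxG : x ∈ chevG2.group F := UP_le_group (cxElt_mem _ _)
  have hvG : v ∈ chevG2.group F :=
    ((le_sup_left : chevG2.posUnipotent F ≤ chevG2.borelSubgroup F).trans (borel_le_group goodG rootsG2)) hv
  have hkG : x * (v⁻¹ * k₀) ∈ chevG2.group F := mul_mem hxG (mul_mem (inv_mem hvG) hk₀)
  have hg' : g' ∈ chevG2.group F := mul_mem (mul_mem hkG hg) (inv_mem hkG)
  have eg : g' = x * (h * m) * xg goodG F 7 s * (u₀ * x⁻¹) := by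
    simp only [g']
    rw [show x * (v⁻¹ * k₀) * g * (x * (v⁻¹ * k₀))⁻¹ = x * (v⁻¹ * (k₀ * g * k₀⁻¹)) * (v * x⁻¹) by group, e,
      show x * (v⁻¹ * (v * h * m * u)) * (v * x⁻¹) = x * (h * m) * (u * v) * x⁻¹ by group, huv]
    group
  have hU2 : UTri chevG2 gr (Mx (u₀ * x⁻¹)) := UP_tri (mul_mem hu₀ (inv_mem (cxElt_mem (φ GF4.om) k)))
  have hxm : ∀ (i : Fin 5) (q : ℕ) (hq : q < 12), (Mx (x * (h * m))) (ix (rowsN i) (rowsN_lt i)) (ix q hq) =
      φ (cxv k i (wAct l q) * rvG a' b' (wAct l q)) := fun i q hq => by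
    rw [col_mul' (hhm q hq), hX, map_mul]
  have h7 : (Mx xg goodG F 7 s) top top = 1 := by rw [xg_fix_top (Or.inl rfl), if_pos rfl]
  have htt : (Mx g') top top = φ (cxv k 4 (wAct l 11) * rvG a' b' (wAct l 11)) := by
    rw [eg, col_top hU2, graded_mul_top (graded_xg (Or.inl rfl) s), h7, mul_one]
    exact hxm 4 11 (by norm_num)
  have hne : rvG a' b' (wAct l 11) ≠ 0 := fun h0 => by
    have := hrv (wAct l 11)
    rw [h0, map_zero] at this
    exact (rootVal a b (wAct l 11)).ne_zero this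
  have hrows : ∀ i : Fin 4, I1 i = ix (rowsN i.castSucc) (rowsN_lt _) := fun i => by fin_cases i <;> rfl
  have hmu : ∀ i j, mu (x * (h * m)) i j = φ
      (cxv k i.castSucc (wAct l (g1 j)) * rvG a' b' (wAct l (g1 j)) * (cxv k 4 (wAct l 11) * rvG a' b' (wAct l 11)) -
      cxv k i.castSucc (wAct l 11) * rvG a' b' (wAct l 11) * (cxv k 4 (wAct l (g1 j)) * rvG a' b' (wAct l (g1 j)))) :=
    fun i j => by
      rw [mu, hrows i, show top = ix (rowsN 4) (rowsN_lt 4) from rfl, map_sub, map_mul φ (_ * _), map_mul φ (_ * _)]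
      congr 2
      · exact hxm _ _ (g1_lt j)
      · exact hxm 4 11 (by norm_num)
      · exact hxm _ 11 (by norm_num)
      · exact hxm 4 _ (g1_lt j)
  have hphi : Phi g' = φ (certSum k l a' b' (φ.symm s)) := by
    rw [eg]
    simp only [Phi, mu_right hU2, mu_graded (graded_xg (Or.inl rfl) s), h7, one_mul, hmu, hU, certSum, map_sum,
      map_mul φ (_ - _)]
  obtain ⟨v', hv', M, u', hu', e', ht⟩ := good_cell hg'
    (by rw [htt]; exact (map_ne_zero φ).2 (mul_ne_zero hk1 hne)) (by rw [hphi]; exact (map_ne_zero φ).2 hk2)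
  exact ⟨_, hkG, v', hv', M, u', hu', e', ht⟩

end Cfsg.Agent.G2Thompson
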