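/-
Products of two conjugates of an elliptic element of the Levi subgroup GL₂ of G₂.

* `posU_fixed`: the fixed points of a torus element on the positive unipotent group;
* `fpf_of_pow`: an element with a scalar power is fixed point free;
* `nT_psi`: the reflection of the highest root induces `M ↦ M / det M`;
* `exists_of_good`: the covering statement from a conjugate of each element in a good cell.
-/
import Cfsg.Agent.EqLemmas
import Cfsg.Agent.Lib.G2Thompson.Cover

set_option autoImplicit false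
set_option linter.unusedSectionVars false
set_option maxRecDepth 100000

namespace Cfsg.Agent.G2Thompson

open Cfsg.Lie Cfsg.Lie.ChevalleyDatum Cfsg.Agent.Chev Cfsg.Agent.ChevBN Cfsg.Agent.ChevSt Cfsg.Agent.ChevInvolOdd
  Cfsg.Agent.Chev.RankOne Cfsg.Agent.G2Invol Matrix
open scoped MatrixGroups

variable {F : Type*} [Field F]

/-! ### Fixed points -/

/-- A torus element fixes only what lies in the root subgroups on which it is trivial. -/
theorem posU_fixed {h : GL chevG2.Idx F} (χ : ℕ → F)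
    (hχ : ∀ r, chevG2.IsPosRoot r → ∀ t, h * xg goodG F r t * h⁻¹ = xg goodG F r (χ r * t))
    {u : GL chevG2.Idx F} (hu : u ∈ chevG2.posUnipotent F) (hc : h * u = u * h) :
    u ∈ Subgroup.closure {g | ∃ (r : ℕ) (t : F), chevG2.IsPosRoot r ∧ χ r = 1 ∧ g = xg goodG F r t} := by
  obtain ⟨o, ho⟩ := goodG.order
  set S := ChevOrder.matSys chevG2 goodG F
  have hmem : u ∈ S.genBy {q | q ∈ chevG2.posRoots} := by
    refine (Subgroup.closure_le _).2 ?_ hu
    rintro g ⟨r, t, hr, e⟩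
    refine Subgroup.subset_closure ⟨r, ?_, t, Units.ext (e.trans ?_)⟩
    · show r ∈ chevG2.posRoots
      simp only [posRoots, List.mem_filter, List.mem_range]
      exact ⟨hr.1, decide_eq_true hr⟩
    · exact (coe_xg goodG r t).symm
  obtain ⟨c, -, rfl⟩ := UProd.exists_prod goodG ho _ (UProd.seg_posRoots ho) u hmem
  have hpos : ∀ r ∈ chevG2.posRoots, chevG2.IsPosRoot r := fun r hr => by
    simp only [posRoots, List.mem_filter, List.mem_range, decide_eq_true_eq] at hr
    exact hr.2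
  have e : ((chevG2.posRoots).map fun r => S.x r (χ r * c r)).prod =
      ((chevG2.posRoots).map fun r => S.x r (c r)).prod := by
    conv_rhs => rw [← mul_inv_eq_of_eq_mul hc, ← MulAut.conj_apply, map_list_prod, List.map_map]
    refine congrArg List.prod (List.map_congr_left fun r hr => ?_)
    show xg goodG F r _ = h * xg goodG F r (c r) * h⁻¹
    rw [hχ r (hpos r hr)]
  have h0 := UProd.prod_inj goodG ho _ (UProd.seg_posRoots ho) _ _ e
  refine list_prod_mem fun g hg => ?_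
  obtain ⟨r, hr, rfl⟩ := List.mem_map.1 hg
  by_cases h1 : χ r = 1
  · exact Subgroup.subset_closure ⟨r, c r, hpos r hr, h1, rfl⟩
  · have := h0 r hr
    have : (χ r - 1) * c r = 0 := by linear_combination this
    rw [show S.x r (c r) = xg goodG F r (c r) from rfl, (mul_eq_zero.1 this).resolve_left (sub_ne_zero.2 h1),
      xg_zero]
    exact one_mem _

theorem commute_top (S : SL(2, F)) (z : F) : Commute (phiA S) (xg goodG F 11 z) := by
  have := rAB_commute S (slX z)
  rwa [show rB F (slX z) = xg goodG F 11 z from sl2Hom_slX goodG (lt12 (by norm_num)) z] at this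

theorem psi_conj_top (M : GL (Fin 2) F) (z : F) :
    psi M * xg goodG F 11 z * (psi M)⁻¹ = xg goodG F 11 ((M : Matrix (Fin 2) (Fin 2) F).det * z) := by
  have h0 : chevG2.cartan 0 11 = 0 ∧ chevG2.cartan 1 11 = 1 := by decide +kernel
  rw [psi_apply, show ∀ a b x : GL chevG2.Idx F, a * b * x * (a * b)⁻¹ = a * (b * x * b⁻¹) * a⁻¹ from
    fun a b x => by group, tor_conj _ _ (by norm_num), rootVal, h0.1, h0.2, _root_.zpow_zero, zpow_one, one_mul,
    (commute_top _ _).eq, mul_inv_cancel_right, coe_gdet]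

/-- No nontrivial fixed point on the radical. -/
def UPFree (X : GL (Fin 2) F) : Prop := ∀ u ∈ UP (F := F), psi X * u = u * psi X → u = 1

theorem UPFree.conj {X : GL (Fin 2) F} (h : UPFree X) (P : GL (Fin 2) F) : UPFree (P * X * P⁻¹) := by
  intro u hu e
  rw [map_mul, map_mul, map_inv] at e
  have e2 : psi X * ((psi P)⁻¹ * u * psi P) = (psi P)⁻¹ * u * psi P * psi X := by
    calc psi X * ((psi P)⁻¹ * u * psi P) = (psi P)⁻¹ * (psi P * psi X * (psi P)⁻¹ * u) * psi P := by group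
      _ = _ := by rw [e]; group
  have := h _ (by simpa using levi_norm_UP (inv_mem (psi_mem_levi P)) hu) e2
  exact conj_eq_one_iff.1 (show (psi P)⁻¹ * u * (psi P)⁻¹⁻¹ = 1 by rw [inv_inv, this])

theorem UPFree.inv {X : GL (Fin 2) F} (h : UPFree X) : UPFree X⁻¹ := by
  intro u hu e
  refine h u hu ?_
  rw [map_inv] at e
  calc psi X * u = psi X * (u * (psi X)⁻¹) * psi X := by group
    _ = _ := by rw [← e]; group

/-- An element with a scalar power is fixed point free. -/
theorem upFree_of_pow {X : GL (Fin 2) F} {k : ℕ} {c : Fˣ} (hk : X ^ k = dgl c c) (hc : c ≠ 1)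
    (h2 : c ^ 2 ≠ 1 ∨ (X : Matrix (Fin 2) (Fin 2) F).det ≠ 1) : UPFree X := by
  intro u hu e
  have ek : psi (X ^ k) * u = u * psi (X ^ k) := by
    rw [map_pow]; exact (Commute.pow_left (show Commute (psi X) u from e) k).eq
  rw [hk, psi_dgl] at ek
  have hexp : ∀ r < 12, chevG2.IsPosRoot r → (r = 7 ∧ chevG2.cartan 0 r + 2 * chevG2.cartan 1 r = 0) ∨
      (r = 11 ∧ chevG2.cartan 0 r + 2 * chevG2.cartan 1 r = 2) ∨
      chevG2.cartan 0 r + 2 * chevG2.cartan 1 r = 1 := by decide +kernel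
  have hval : ∀ r, rootVal c (c * c) r = c ^ (chevG2.cartan 0 r + 2 * chevG2.cartan 1 r) := fun r => by
    rw [rootVal, ← sq, ← zpow_natCast c 2, ← _root_.zpow_mul, ← _root_.zpow_add]
    rfl
  have hfix := posU_fixed (fun r => ((rootVal c (c * c) r : Fˣ) : F))
    (fun r hr => tor_conj _ _ (hr.1.trans_le nroots_G2.le)) (UP_le_pos hu) ek
  -- the fixed points lie in X₇ X₁₁, and in X₇ unless c² = 1
  have key : ∃ a z : F, u = xg goodG F 7 a * xg goodG F 11 z ∧ (c ^ 2 ≠ 1 → z = 0) := by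
    refine Subgroup.closure_induction (p := fun x _ => ∃ a z : F, x = xg goodG F 7 a * xg goodG F 11 z ∧
      (c ^ 2 ≠ 1 → z = 0)) ?_ ⟨0, 0, by rw [xg_zero, xg_zero, one_mul], fun _ => rfl⟩ ?_ ?_ hfix
    · rintro x ⟨r, t, hr, h1, rfl⟩
      have h1' : rootVal c (c * c) r = 1 := Units.ext h1
      rw [hval] at h1'
      rcases hexp r (hr.1.trans_le nroots_G2.le) hr with ⟨rfl, -⟩ | ⟨rfl, he⟩ | he
      · exact ⟨t, 0, by rw [xg_zero, mul_one], fun _ => rfl⟩
      · refine ⟨0, t, by rw [xg_zero, one_mul], fun hne => absurd ?_ hne⟩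
        rw [he] at h1'
        exact_mod_cast h1'
      · rw [he, zpow_one] at h1'
        exact absurd h1' hc
    · rintro x y - - ⟨a, z, rfl, hz⟩ ⟨a', z', rfl, hz'⟩
      refine ⟨a + a', z + z', ?_, fun h => by rw [hz h, hz' h, add_zero]⟩
      have hcm := commute_top (slX a') z
      rw [phiA_X] at hcm
      rw [← xg_add goodG (lt12 (by norm_num)), ← xg_add goodG (lt12 (by norm_num)),
        show ∀ p q r s : GL chevG2.Idx F, p * q * (r * s) = p * (q * r) * s from fun p q r s => by group,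
        ← hcm.eq]
      group
    · rintro x - ⟨a, z, rfl, hz⟩
      refine ⟨-a, -z, ?_, fun h => by rw [hz h, neg_zero]⟩
      have hcm := commute_top (slX (-a)) (-z)
      rw [phiA_X] at hcm
      rw [_root_.mul_inv_rev, xg_inv, xg_inv, hcm.eq]
  obtain ⟨a, z, rfl, hz⟩ := key
  have hz11 : ∀ t : F, xg goodG F 11 t ∈ UP (F := F) := fun t => mem_UP_of (by decide +kernel) (by norm_num) t
  have h7 : xg goodG F 7 a = 1 := by
    have h1 : xg goodG F 7 a ∈ UP (F := F) := by
      have := mul_mem hu (inv_mem (hz11 z))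
      rwa [mul_inv_cancel_right] at this
    have h2' : xg goodG F 7 a ∈ chevG2.leviSubgroup F J0 := by
      rw [← phiA_X]
      exact Subgroup.mem_sup_right (Subgroup.subset_closure ⟨7, a, inRootSub_iff_G2.2 (Or.inl rfl),
        by rw [phiA_X]; exact coe_xg _ _ _⟩)
    exact Subgroup.mem_bot.1 ((radical_inf_levi goodG rootsG2 J0).le ⟨h1, h2'⟩)
  rw [h7, one_mul] at e ⊢
  rcases h2 with h2 | h2
  · rw [hz h2, xg_zero]
  · have h3 : xg goodG F 11 ((X : Matrix (Fin 2) (Fin 2) F).det * z) = xg goodG F 11 z := by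
      rw [← psi_conj_top, e, mul_inv_cancel_right]
    have h4 := xg_param_inj goodG (lt12 (by norm_num)) h3
    have : ((X : Matrix (Fin 2) (Fin 2) F).det - 1) * z = 0 := by linear_combination h4
    rw [(mul_eq_zero.1 this).resolve_left (sub_ne_zero.2 h2), xg_zero]

/-! ### The reflection of the highest root on the Levi subgroup -/

theorem nT_commute (S : SL(2, F)) : Commute (nT (F := F)) (phiA S) := by
  have h11 : ∀ t : F, Commute (phiA S) (xg goodG F 11 t) := commute_top S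
  have h0 : ∀ t : F, Commute (phiA S) (xg goodG F 0 t) := fun t => by
    have := rAB_commute S (slY t)
    rwa [show rB F (slY t) = xg goodG F 0 t by
      rw [rB, sl2Hom_slY]; exact congrArg (fun r => xg goodG F r t) simples.2.2.2.1] at this
  rw [nT, ng, simples.2.2.2.1]
  exact (((h11 1).mul_right (h0 _)).mul_right (h11 1)).symm

theorem nT_tor (d : Fˣ) : nT * tor 1 d * (nT (F := F))⁻¹ = tor d⁻¹ d⁻¹ := by
  set h := nT * tor 1 d * (nT (F := F))⁻¹
  have hN : h ∈ (chevRGD goodG rootsG2 F).N :=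
    mul_mem (mul_mem nT_mem_N ((chevRGD goodG rootsG2 F).H_le_N (tor_mem 1 d))) (inv_mem nT_mem_N)
  have hact : ∀ r < 12, ∀ t : F, h * xg goodG F r t * h⁻¹ =
      xg goodG F r (((rootVal 1 d (Chev.refl chevG2 11 r) : Fˣ) : F) * t) := fun r h12 t => by
    have hs := (refl11_table r h12).1
    obtain ⟨-, c, hc, hcu⟩ := perms_nT (F := F) (Chev.refl chevG2 11 r) (lt12 hs)
    rw [refl_refl_G2 11 (by norm_num) r h12] at hcu
    have e1 : (nT (F := F))⁻¹ * xg goodG F r t * nT = xg goodG F (Chev.refl chevG2 11 r) (c⁻¹ * t) := by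
      have := hcu (c⁻¹ * t)
      rw [← mul_assoc c, mul_inv_cancel₀ hc, one_mul] at this
      rw [← this]; group
    rw [show h * xg goodG F r t * h⁻¹ =
      nT * (tor 1 d * ((nT (F := F))⁻¹ * xg goodG F r t * nT) * (tor (1 : Fˣ) d)⁻¹) * nT⁻¹ by
        simp only [h]; group, e1, tor_conj _ _ hs, hcu]
    congr 1
    field_simp
  have hdiag : h ∈ chevG2.diagonalSubgroup F := mem_diag_of_perms goodG rootsG2 hN fun q hq =>
    ⟨hq, _, (rootVal 1 d (Chev.refl chevG2 11 q)).ne_zero, fun t => hact q (hq.trans_le nroots_G2.le) t⟩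
  obtain ⟨x, y, hxy⟩ := exists_tor hdiag
  have hv : ∀ r < 12, rootVal x y r = rootVal 1 d (Chev.refl chevG2 11 r) := fun r h12 => by
    have h1 := hact r h12 1
    rw [hxy, tor_conj _ _ h12, mul_one, mul_one] at h1
    exact Units.ext (xg_param_inj goodG (lt12 h12) h1)
  obtain ⟨c1, c2, c3, c4, c5, c6, c7, c8⟩ : chevG2.cartan 0 9 = 1 ∧ chevG2.cartan 1 9 = 0 ∧
      Chev.refl chevG2 11 9 = 3 ∧ chevG2.cartan 1 3 = -1 ∧ chevG2.cartan 0 11 = 0 ∧ chevG2.cartan 1 11 = 1 ∧
      Chev.refl chevG2 11 11 = 0 ∧ chevG2.cartan 1 0 = -1 := by decide +kernel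
  have hx := hv 9 (by norm_num)
  have hy := hv 11 (by norm_num)
  simp only [rootVal, c1, c2, c3, c4, c5, c6, c7, c8, _root_.one_zpow, one_mul, _root_.zpow_zero, mul_one,
    zpow_one, _root_.zpow_neg_one] at hx hy
  rw [hxy, hx, hy]

theorem nT_psi (M : GL (Fin 2) F) : ∃ M' : GL (Fin 2) F, nT * psi M * (nT (F := F))⁻¹ = psi M' ∧
    (M' : Matrix (Fin 2) (Fin 2) F).trace * (M : Matrix (Fin 2) (Fin 2) F).det = (M : Matrix (Fin 2) (Fin 2) F).trace ∧
    (M' : Matrix (Fin 2) (Fin 2) F).det * (M : Matrix (Fin 2) (Fin 2) F).det = 1 := by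
  set d := gdet M with hd
  refine ⟨M * dgl d⁻¹ d⁻¹, ?_, ?_, ?_⟩
  · rw [map_mul, psi_apply M, psi_dgl, ← hd,
      show ∀ n a b : GL chevG2.Idx F, n * (a * b) * n⁻¹ = n * a * n⁻¹ * (n * b * n⁻¹) from fun n a b => by group,
      (nT_commute _).eq, mul_inv_cancel_right, nT_tor, mul_assoc, tor_mul]
    congr 2 <;> group
  · rw [← coe_gdet, ← hd, Units.val_mul]
    simp [dgl, Matrix.trace_fin_two, Matrix.mul_apply, Fin.sum_univ_two]
    field_simp
  · rw [← coe_gdet, ← coe_gdet, gdet_mul, gdet_dgl, ← hd, ← Units.val_mul, ← Units.val_one]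
    congr 1
    group

/-! ### The covering -/

/-- The two classes of GL₂ used: those of `X` and of `X⁻¹`, by trace and determinant. -/
def InCls (τ d : F) (M : GL (Fin 2) F) : Prop :=
  ((M : Matrix (Fin 2) (Fin 2) F).trace = τ ∧ (M : Matrix (Fin 2) (Fin 2) F).det = d) ∨
    ((M : Matrix (Fin 2) (Fin 2) F).trace * d = τ ∧ (M : Matrix (Fin 2) (Fin 2) F).det * d = 1)

theorem nonScalar_of_noRoot {A : Matrix (Fin 2) (Fin 2) F} (h : ∀ x : F, x * x - A.trace * x + A.det ≠ 0) :
    NonScalar A := by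
  by_contra hn
  simp only [NonScalar, not_or, not_not] at hn
  refine h (A 0 0) ?_
  rw [Matrix.trace_fin_two, Matrix.det_fin_two, hn.1, hn.2.1, ← hn.2.2]
  ring

theorem inv_tr_det (M : GL (Fin 2) F) :
    ((M⁻¹ : GL (Fin 2) F) : Matrix (Fin 2) (Fin 2) F).trace * (M : Matrix (Fin 2) (Fin 2) F).det =
      (M : Matrix (Fin 2) (Fin 2) F).trace ∧
    ((M⁻¹ : GL (Fin 2) F) : Matrix (Fin 2) (Fin 2) F).det * (M : Matrix (Fin 2) (Fin 2) F).det = 1 := by
  have hne : (M : Matrix (Fin 2) (Fin 2) F).det ≠ 0 := by rw [← coe_gdet]; exact (gdet M).ne_zero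
  refine ⟨?_, by rw [← Matrix.det_mul, Units.inv_mul, Matrix.det_one]⟩
  rw [Matrix.coe_units_inv, Matrix.inv_def, Matrix.trace_smul, smul_eq_mul, Matrix.trace_fin_two,
    Matrix.trace_fin_two, Matrix.adjugate_fin_two, Ring.inverse_eq_inv']
  simp only [Matrix.of_apply, Matrix.cons_val', Matrix.cons_val_zero, Matrix.cons_val_one, Matrix.cons_val_fin_one]
  field_simp
  ring

/-- The element of GL₂ with trace `τ` and determinant `d`. -/
def compX (τ : F) (d : Fˣ) : GL (Fin 2) F :=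
  GeneralLinearGroup.mkOfDetNeZero !![0, -(d : F); 1, τ] (by simp [Matrix.det_fin_two])

theorem compX_tr_det (τ : F) (d : Fˣ) :
    (compX τ d : Matrix (Fin 2) (Fin 2) F).trace = τ ∧ (compX τ d : Matrix (Fin 2) (Fin 2) F).det = d := by
  simp [compX, Matrix.trace_fin_two, Matrix.det_fin_two]

theorem inCls_ok {τ : F} {d : Fˣ} (hfree : UPFree (compX τ d)) (hirr : ∀ x : F, x * x - τ * x + d ≠ 0)
    {M : GL (Fin 2) F} (hM : InCls τ d M) :
    FPF M ∧ ∃ k ∈ chevG2.group F, psi M = k * psi (compX τ d) * k⁻¹ := by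
  obtain ⟨tX, dX⟩ := compX_tr_det τ d
  set X := compX τ d
  have hd : (d : F) ≠ 0 := d.ne_zero
  have hirr' : ∀ A : Matrix (Fin 2) (Fin 2) F, A.trace * d = τ → A.det * d = 1 →
      ∀ x : F, x * x - A.trace * x + A.det ≠ 0 := fun A h1 h2 x h => by
    have hx0 : x ≠ 0 := by
      rintro rfl
      exact one_ne_zero (show (1 : F) = 0 by rw [← h2]; linear_combination (d : F) * h)
    refine hirr x⁻¹ ?_
    field_simp
    linear_combination (d : F) * h + x * h1 - h2
  obtain ⟨X', hX', tX', dX'⟩ := nT_psi X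
  rw [dX, tX] at tX'
  rw [dX] at dX'
  have nsX : NonScalar (X : Matrix (Fin 2) (Fin 2) F) := nonScalar_of_noRoot (by rwa [tX, dX])
  have nsX' : NonScalar (X' : Matrix (Fin 2) (Fin 2) F) := nonScalar_of_noRoot (hirr' _ tX' dX')
  obtain ⟨ti, di⟩ := inv_tr_det X
  rw [dX, tX] at ti
  rw [dX] at di
  have ns_i : NonScalar ((X⁻¹ : GL (Fin 2) F) : Matrix (Fin 2) (Fin 2) F) := nonScalar_of_noRoot (hirr' _ ti di)
  obtain ⟨R, hR⟩ := exists_conj_of_tr_det nsX' ns_i (mul_right_cancel₀ hd (tX'.trans ti.symm))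
    (mul_right_cancel₀ hd (dX'.trans di.symm))
  have hfree' : UPFree X' := hR ▸ hfree.inv.conj R
  have hfX : FPF X := by
    refine ⟨hfree, fun u hu e => ?_⟩
    have h := hfree' _ (mem_UM.1 hu) (by
      rw [← hX']
      calc nT * psi X * (nT (F := F))⁻¹ * (nT * u * nT⁻¹) = nT * (psi X * u) * nT⁻¹ := by group
        _ = _ := by rw [e]; group)
    exact conj_eq_one_iff.1 h
  have hfI : FPF X⁻¹ := by
    refine ⟨hfree.inv, fun u hu e => hfX.2 u hu ?_⟩
    rw [map_inv] at e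
    calc psi X * u = psi X * (u * (psi X)⁻¹) * psi X := by group
      _ = _ := by rw [← e]; group
  rcases hM with ⟨h1, h2⟩ | ⟨h1, h2⟩
  · obtain ⟨P, rfl⟩ := exists_conj_of_tr_det (nonScalar_of_noRoot (by rwa [h1, h2])) nsX (h1.trans tX.symm)
      (h2.trans dX.symm)
    exact ⟨hfX.conj P, psi P, psi_mem_group P, by rw [map_mul, map_mul, map_inv]⟩
  · obtain ⟨P, hP⟩ := exists_conj_of_tr_det (nonScalar_of_noRoot (hirr' _ h1 h2)) ns_i
      (mul_right_cancel₀ hd (h1.trans ti.symm)) (mul_right_cancel₀ hd (h2.trans di.symm))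
    refine ⟨hP ▸ hfI.conj P, psi (P * R⁻¹) * nT, mul_mem (psi_mem_group _) nT_mem_group, ?_⟩
    calc psi M = psi (P * R⁻¹) * psi X' * (psi (P * R⁻¹))⁻¹ := by rw [hP, hR]; simp only [map_mul, map_inv]; group
      _ = _ := by rw [← hX']; group

theorem exists_of_good [Fintype F] (p : ℕ) [Fact p.Prime] [CharP F p] (τ : F) (d c : Fˣ) (k n : ℕ)
    (hk : compX τ d ^ k = dgl c c) (hc : c ≠ 1) (h2 : c ^ 2 ≠ 1 ∨ (d : F) ≠ 1) (hn : c ^ n = 1)
    (hp : ¬ p ∣ k * n) (hirr : ∀ x : F, x * x - τ * x + d ≠ 0)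
    (hgood : ∀ g ∈ chevG2.group F, g ≠ 1 → ∃ k ∈ chevG2.group F, ∃ v ∈ UM (F := F), ∃ u ∈ UP (F := F),
      ∃ M N : GL (Fin 2) F, InCls τ d M ∧ InCls τ d N ∧ k * g * k⁻¹ = v * psi (M * N) * u) :
    ∃ x : chevG2.group F, ¬ p ∣ orderOf x ∧ ∀ g : chevG2.group F, g ≠ 1 →
      ∃ u v : chevG2.group F, g = (u * x * u⁻¹) * (v * x * v⁻¹) := by
  classical
  have hfree : UPFree (compX τ d) := upFree_of_pow hk hc (by rwa [(compX_tr_det τ d).2])
  refine ⟨⟨psi (compX τ d), psi_mem_group _⟩, not_dvd_orderOf p _ ⟨k * n, hp, ?_⟩, fun g hg => ?_⟩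
  · have e : ∀ m : ℕ, dgl c c ^ m = dgl (c ^ m) (c ^ m) := fun m => by
      induction m with
      | zero => apply Units.ext; ext i j; fin_cases i <;> fin_cases j <;> simp [dgl]
      | succ m ih =>
        rw [pow_succ, ih]; apply Units.ext
        ext i j; fin_cases i <;> fin_cases j <;> simp [dgl, Matrix.mul_apply, Fin.sum_univ_two, pow_succ]
    rw [pow_mul, hk, e, hn]
    apply Units.ext; ext i j; fin_cases i <;> fin_cases j <;> simp [dgl]
  obtain ⟨k', hk', v, hv, u, hu, M, N, hM, hN, e⟩ := hgood g g.2 fun h => hg (Subtype.ext h)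
  obtain ⟨fM, kM, hkM, eM⟩ := inCls_ok hfree hirr hM
  obtain ⟨fN, kN, hkN, eN⟩ := inCls_ok hfree hirr hN
  obtain ⟨⟨a, ha, ea⟩, -⟩ := exists_conj_translate (A := UM (F := F)) (m := psi M)
    (fun y hy => levi_norm_UM (psi_mem_levi _) hy)
    (fun y hy => by simpa using levi_norm_UM (inv_mem (psi_mem_levi M)) hy) fM.2 hv
  obtain ⟨-, b, hb, eb⟩ := exists_conj_translate (A := UP (F := F)) (m := psi N)
    (fun y hy => levi_norm_UP (psi_mem_levi _) hy)
    (fun y hy => by simpa using levi_norm_UP (inv_mem (psi_mem_levi N)) hy) fN.1 hu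
  refine ⟨⟨k'⁻¹ * a * kM, mul_mem (mul_mem (inv_mem hk') (UM_le_group ha)) hkM⟩,
    ⟨k'⁻¹ * b * kN, mul_mem (mul_mem (inv_mem hk') (UP_le_group hb)) hkN⟩, Subtype.ext ?_⟩
  rw [map_mul, show v * (psi M * psi N) * u = (v * psi M) * (psi N * u) by group, ← ea, ← eb] at e
  simp only [Subgroup.coe_mul, Subgroup.coe_inv]
  rw [show (g : GL chevG2.Idx F) = k'⁻¹ * (k' * g * k'⁻¹) * k' by group, e, eM, eN]
  group

end Cfsg.Agent.G2Thompson
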