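/-
Products of two elements from the classes of an elliptic element and of its inverse in GL₂ over 3, 4 and 5 elements.

* `TwoCls`: the finite check; `exists_factor`: its transport along an isomorphism of fields;
* `check_three`, `check_four`, `check_five`: the three checks.
-/
import Cfsg.Agent.EqLemmas
import Cfsg.Agent.Lib.G2Thompson.Small
import Cfsg.Agent.Lib.Unitary.Small32

set_option autoImplicit false
set_option linter.unusedSectionVars false

namespace Cfsg.Agent.G2Thompson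

open Matrix Cfsg.Agent.Unitary
open scoped MatrixGroups

/-- Every matrix (a b; c e) satisfying `P` is a product of two matrices with invariants in `S`. -/
def TwoCls (K : Type*) [CommRing K] (S : List (K × K)) (P : K → K → K → K → Prop) : Prop :=
  ∀ a b c e : K, P a b c e → ∃ m ∈ S, ∃ x y z : K, x * (m.1 - x) - y * z = m.2 ∧
    ∃ n ∈ S, (m.1 - x) * a - y * c - z * b + x * e = m.2 * n.1 ∧ a * e - b * c = m.2 * n.2

theorem check_three : TwoCls (ZMod 3) [(1, 2), (2, 2)] fun a b c e => a * e - b * c = 1 := by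
  unfold TwoCls; decide +kernel

theorem check_five : TwoCls (ZMod 5) [(1, 2), (3, 3)] fun a b c e => a * e - b * c = 4 := by
  unfold TwoCls; decide +kernel

theorem check_four :
    TwoCls GF4 [(1, GF4.om), (GF4.om2, GF4.om2)] fun a b c e => a + e ≠ 0 ∧ a * e - b * c ≠ 0 := by
  unfold TwoCls; decide +kernel

variable {F : Type*} [Field F] {K : Type*} [Field K]

theorem exists_factor (φ : K ≃+* F) {τ d τ' d' : K} (hd : d ≠ 0) (h1 : τ' * d = τ) (h2 : d' * d = 1)
    {P : K → K → K → K → Prop} (hK : TwoCls K [(τ, d), (τ', d')] P) (L : GL (Fin 2) F)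
    (hL : P (φ.symm ((L : Matrix (Fin 2) (Fin 2) F) 0 0)) (φ.symm ((L : Matrix (Fin 2) (Fin 2) F) 0 1))
      (φ.symm ((L : Matrix (Fin 2) (Fin 2) F) 1 0)) (φ.symm ((L : Matrix (Fin 2) (Fin 2) F) 1 1))) :
    ∃ M N : GL (Fin 2) F, InCls (φ τ) (φ d) M ∧ InCls (φ τ) (φ d) N ∧ L = M * N := by
  obtain ⟨m, hm, x, y, z, hdet, n, hn, htr, hdn⟩ := hK _ _ _ _ hL
  have hcls : ∀ q ∈ [(τ, d), (τ', d')], ∀ A : GL (Fin 2) F, (A : Matrix (Fin 2) (Fin 2) F).trace = φ q.1 →
      (A : Matrix (Fin 2) (Fin 2) F).det = φ q.2 → InCls (φ τ) (φ d) A := by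
    intro q hq A ht hdA
    simp only [List.mem_cons, List.not_mem_nil, or_false] at hq
    rcases hq with rfl | rfl
    · exact Or.inl ⟨ht, hdA⟩
    · exact Or.inr ⟨by rw [ht, ← map_mul, h1], by rw [hdA, ← map_mul, h2, map_one]⟩
  have hne : ∀ q ∈ [(τ, d), (τ', d')], q.2 ≠ 0 := by
    intro q hq
    simp only [List.mem_cons, List.not_mem_nil, or_false] at hq
    rcases hq with rfl | rfl
    · exact hd
    · exact left_ne_zero_of_mul_eq_one h2
  have em : φ x * (φ m.1 - φ x) - φ y * φ z = φ m.2 := by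
    rw [← hdet]; simp
  have hm0 : φ m.2 ≠ 0 := fun h => hne m hm (φ.injective (h.trans (map_zero φ).symm))
  let M : GL (Fin 2) F := GeneralLinearGroup.mkOfDetNeZero !![φ x, φ y; φ z, φ m.1 - φ x]
    (by rw [Matrix.det_fin_two]; simpa [em] using hm0)
  have hM : (M : Matrix (Fin 2) (Fin 2) F) = !![φ x, φ y; φ z, φ m.1 - φ x] := rfl
  have hMd : (M : Matrix (Fin 2) (Fin 2) F).det = φ m.2 := by
    rw [hM, Matrix.det_fin_two]; simpa using em
  refine ⟨M, M⁻¹ * L, hcls m hm M (by rw [hM, Matrix.trace_fin_two]; simp) hMd, hcls n hn _ ?_ ?_, by group⟩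
  · refine mul_left_cancel₀ hm0 ?_
    rw [← map_mul, ← htr, Units.val_mul, Matrix.coe_units_inv, Matrix.inv_def, Ring.inverse_eq_inv', Matrix.smul_mul,
      Matrix.trace_smul, smul_eq_mul, hMd, mul_inv_cancel_left₀ hm0, hM, Matrix.adjugate_fin_two]
    simp [Matrix.trace_fin_two, Matrix.vecMul, dotProduct, Fin.sum_univ_two, Matrix.mul_apply]
    ring
  · refine mul_left_cancel₀ hm0 ?_
    rw [← map_mul, ← hdn, ← hMd, ← Matrix.det_mul, ← Units.val_mul, mul_inv_cancel_left, Matrix.det_fin_two]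
    simp

end Cfsg.Agent.G2Thompson
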