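/-
A semisimple class of G₂(q) whose square covers the group, for q = 3, 4, 5.

* `exists_of_check`: the case of a finite check on GL₂ at one determinant;
* `exists_three`, `exists_four`, `exists_five`: the three fields.
-/
import Cfsg.Agent.EqLemmas
import Cfsg.Agent.Lib.G2Thompson.GL2Small
import Cfsg.Agent.Lib.G2Thompson.Four
import Mathlib.FieldTheory.Finite.GaloisField

set_option autoImplicit false
set_option linter.unusedSectionVars false
set_option maxRecDepth 100000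

namespace Cfsg.Agent.G2Thompson

open Cfsg.Lie Cfsg.Lie.ChevalleyDatum Cfsg.Agent.Chev Cfsg.Agent.ChevBN Cfsg.Agent.ChevSt Cfsg.Agent.ChevInvolOdd
  Cfsg.Agent.G2Invol Matrix Cfsg.Agent.Unitary
open scoped MatrixGroups

variable {F : Type*} [Field F] [Fintype F] {K : Type*} [Field K]

/-- The conclusion of the theorem. -/
def Covered (F : Type*) [Field F] (p : ℕ) : Prop :=
  ∃ x : chevG2.group F, ¬ p ∣ orderOf x ∧ ∀ g : chevG2.group F, g ≠ 1 →
    ∃ u v : chevG2.group F, g = (u * x * u⁻¹) * (v * x * v⁻¹)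

theorem compX_pow_map (φ : K ≃+* F) (τ : K) (d c : Kˣ) (k : ℕ)
    (hk : (compX τ d ^ k : GL (Fin 2) K) = dgl c c) :
    (compX (φ τ) (Units.map φ.toRingHom.toMonoidHom d) ^ k : GL (Fin 2) F) =
      dgl (Units.map φ.toRingHom.toMonoidHom c) (Units.map φ.toRingHom.toMonoidHom c) := by
  have h := congrArg (GeneralLinearGroup.map φ.toRingHom) hk
  rw [map_pow] at h
  convert h using 1
  · congr 1
    apply Units.ext
    ext i j; fin_cases i <;> fin_cases j <;> simp [compX, GeneralLinearGroup.map]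
  · apply Units.ext
    ext i j; fin_cases i <;> fin_cases j <;> simp [dgl, GeneralLinearGroup.map]

theorem exists_of_check (p : ℕ) [Fact p.Prime] [CharP F p] (φ : K ≃+* F) (τ τ' d' : K) (d c : Kˣ) (k n : ℕ)
    (hk : (compX τ d ^ k : GL (Fin 2) K) = dgl c c) (hc : c ≠ 1) (h2 : c ^ 2 ≠ 1 ∨ (d : K) ≠ 1) (hn : c ^ n = 1)
    (hp : ¬ p ∣ k * n) (hirr : ∀ x : K, x * x - τ * x + d ≠ 0) (h1 : τ' * d = τ) (h1' : d' * d = 1)
    {P : K → K → K → K → Prop} (hK : TwoCls K [(τ, (d : K)), (τ', d')] P)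
    (hcell : ∀ g ∈ chevG2.group F, g ≠ 1 → ∃ k ∈ chevG2.group F, ∃ v ∈ UM (F := F), ∃ L : GL (Fin 2) F,
      ∃ u ∈ UP (F := F), k * g * k⁻¹ = v * psi L * u ∧
        P (φ.symm ((L : Matrix (Fin 2) (Fin 2) F) 0 0)) (φ.symm ((L : Matrix (Fin 2) (Fin 2) F) 0 1))
          (φ.symm ((L : Matrix (Fin 2) (Fin 2) F) 1 0)) (φ.symm ((L : Matrix (Fin 2) (Fin 2) F) 1 1))) :
    Covered F p := by
  set μ := Units.map φ.toRingHom.toMonoidHom
  have hinj : Function.Injective μ := Units.map_injective φ.injective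
  refine exists_of_good p (φ τ) (μ d) (μ c) k n (compX_pow_map φ τ d c k hk) (by simpa using hinj.ne hc) ?_
    (by rw [← map_pow, hn, map_one]) hp (fun x hx => hirr (φ.symm x) ?_) fun g hg hg1 => ?_
  · rcases h2 with h | h
    · exact Or.inl (by rw [← map_pow, ← map_one μ]; exact hinj.ne h)
    · exact Or.inr fun e => h (φ.injective (e.trans (map_one φ).symm))
  · apply φ.injective
    rw [map_zero, map_add, map_sub, map_mul, map_mul, φ.apply_symm_apply]
    exact hx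
  · obtain ⟨k, hk, v, hv, L, u, hu, e, hL⟩ := hcell g hg hg1
    obtain ⟨M, N, hM, hN, rfl⟩ := exists_factor φ d.ne_zero h1 h1' hK L hL
    exact ⟨k, hk, v, hv, u, hu, M, N, hM, hN, e⟩

theorem cell_det (φ : K ≃+* F) (a : K) (ha : a ≠ 0) (hK : ∃ x : K, x ≠ 0 ∧ x ≠ 1) {g : GL chevG2.Idx F}
    (hg : g ∈ chevG2.group F) (hg1 : g ≠ 1) :
    ∃ k ∈ chevG2.group F, ∃ v ∈ UM (F := F), ∃ L : GL (Fin 2) F, ∃ u ∈ UP (F := F), k * g * k⁻¹ = v * psi L * u ∧
      φ.symm ((L : Matrix (Fin 2) (Fin 2) F) 0 0) * φ.symm ((L : Matrix (Fin 2) (Fin 2) F) 1 1) -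
        φ.symm ((L : Matrix (Fin 2) (Fin 2) F) 0 1) * φ.symm ((L : Matrix (Fin 2) (Fin 2) F) 1 0) = a := by
  obtain ⟨x, hx0, hx1⟩ := hK
  obtain ⟨k, hk, hkc⟩ := exists_conj_coeff ⟨φ x, (map_ne_zero φ).2 hx0, fun h => hx1 (φ.injective (h.trans (map_one φ).symm))⟩
    hg hg1 (φ a)
  obtain ⟨v, hv, L, u, hu, e, hdet⟩ := cell (mul_mem (mul_mem hk hg) (inv_mem hk))
    (by rw [hkc]; exact (map_ne_zero φ).2 ha)
  refine ⟨k, hk, v, hv, L, u, hu, e, ?_⟩
  rw [← map_mul, ← map_mul, ← map_sub, ← Matrix.det_fin_two, hdet, hkc, φ.symm_apply_apply]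

instance fact_five : Fact (Nat.Prime 5) := ⟨by norm_num⟩

/-- The units used. -/
def u23 : (ZMod 3)ˣ := ⟨2, 2, by decide +kernel, by decide +kernel⟩

/-- The units used. -/
def u25 : (ZMod 5)ˣ := ⟨2, 3, by decide +kernel, by decide +kernel⟩

/-- The units used. -/
def w4 : GF4ˣ := ⟨GF4.om, GF4.om2, by decide +kernel, by decide +kernel⟩

theorem facts_three : (compX (1 : ZMod 3) u23 ^ 4 : GL (Fin 2) (ZMod 3)) = dgl u23 u23 ∧ u23 ≠ 1 ∧
    (u23 : ZMod 3) ≠ 1 ∧ u23 ^ 2 = 1 ∧ (∀ x : ZMod 3, x * x - 1 * x + u23 ≠ 0) ∧ (2 : ZMod 3) * u23 = 1 ∧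
    (2 : ZMod 3) ≠ 0 ∧ (2 : ZMod 3) ≠ 1 := by
  refine ⟨?_, by decide +kernel, by decide +kernel, by decide +kernel, by decide +kernel, by decide +kernel,
    by decide +kernel, by decide +kernel⟩
  apply Units.ext
  rw [Units.val_pow_eq_pow_val]
  simp only [pow_succ, pow_zero, one_mul, compX, dgl, GeneralLinearGroup.mkOfDetNeZero]
  decide +kernel

theorem facts_five : (compX (1 : ZMod 5) u25 ^ 6 : GL (Fin 2) (ZMod 5)) = dgl u25 u25 ∧ u25 ≠ 1 ∧
    u25 ^ 2 ≠ 1 ∧ u25 ^ 4 = 1 ∧ (∀ x : ZMod 5, x * x - 1 * x + u25 ≠ 0) ∧ (3 : ZMod 5) * u25 = 1 ∧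
    (2 : ZMod 5) ≠ 0 ∧ (2 : ZMod 5) ≠ 1 ∧ (4 : ZMod 5) ≠ 0 := by
  refine ⟨?_, by decide +kernel, by decide +kernel, by decide +kernel, by decide +kernel, by decide +kernel,
    by decide +kernel, by decide +kernel, by decide +kernel⟩
  apply Units.ext
  rw [Units.val_pow_eq_pow_val]
  simp only [pow_succ, pow_zero, one_mul, compX, dgl, GeneralLinearGroup.mkOfDetNeZero]
  decide +kernel

theorem exists_three (p : ℕ) [Fact p.Prime] [CharP F p] (h3 : Fintype.card F = 3) : Covered F p := by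
  obtain rfl : p = 3 := by
    have h := FiniteField.cast_card_eq_zero F
    rw [h3, CharP.cast_eq_zero_iff F p] at h
    exact (Nat.prime_dvd_prime_iff_eq (Fact.out : p.Prime) Nat.prime_three).1 h
  obtain ⟨f1, f2, f3, f4, f5, f6, f7, f8⟩ := facts_three
  let φ : ZMod 3 ≃+* F := FiniteField.ringEquivOfCardEq (by rw [h3]; exact ZMod.card 3)
  exact exists_of_check 3 φ 1 2 2 u23 u23 4 2 f1 f2 (Or.inr f3) f4 (by norm_num) f5 f6 f6 check_three
    fun g hg hg1 => cell_det φ 1 one_ne_zero ⟨2, f7, f8⟩ hg hg1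

theorem exists_five (p : ℕ) [Fact p.Prime] [CharP F p] (h5 : Fintype.card F = 5) : Covered F p := by
  obtain rfl : p = 5 := by
    have h := FiniteField.cast_card_eq_zero F
    rw [h5, CharP.cast_eq_zero_iff F p] at h
    exact (Nat.prime_dvd_prime_iff_eq (Fact.out : p.Prime) (by norm_num)).1 h
  obtain ⟨f1, f2, f3, f4, f5, f6, f7, f8, f9⟩ := facts_five
  let φ : ZMod 5 ≃+* F := FiniteField.ringEquivOfCardEq (by rw [h5]; exact ZMod.card 5)
  exact exists_of_check 5 φ 1 3 3 u25 u25 6 4 f1 f2 (Or.inl f3) f4 (by norm_num) f5 f6 f6 check_five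
    fun g hg hg1 => cell_det φ 4 f9 ⟨2, f7, f8⟩ hg hg1

theorem exists_four (p : ℕ) [Fact p.Prime] [CharP F p] (h4 : Fintype.card F = 4) : Covered F p := by
  obtain rfl : p = 2 := by
    have h := FiniteField.cast_card_eq_zero F
    rw [h4, CharP.cast_eq_zero_iff F p] at h
    exact (Nat.prime_dvd_prime_iff_eq (Fact.out : p.Prime) Nat.prime_two).1
      ((Fact.out : p.Prime).dvd_of_dvd_pow (show p ∣ 2 ^ 2 from h))
  let φ : GF4 ≃+* F := FiniteField.ringEquivOfCardEq (by rw [h4, GF4.card]; norm_num)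
  refine exists_of_check 2 φ 1 GF4.om2 GF4.om2 w4 w4 5 3 ?_ (by decide +kernel) (Or.inl (by decide +kernel))
    (by decide +kernel) (by norm_num) (by decide +kernel) (by decide +kernel) (by decide +kernel) check_four
    fun g hg hg1 => ?_
  · apply Units.ext
    rw [Units.val_pow_eq_pow_val]
    simp only [pow_succ, pow_zero, one_mul, compX, dgl, GeneralLinearGroup.mkOfDetNeZero]
    decide +kernel
  · obtain ⟨k, hk, v, hv, L, u, hu, e, ht⟩ := exists_good_conj φ hg hg1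
    refine ⟨k, hk, v, hv, L, u, hu, e, ?_, ?_⟩
    · rw [← map_add, ← Matrix.trace_fin_two]
      exact (map_ne_zero φ.symm).2 ht
    · rw [← map_mul, ← map_mul, ← map_sub, ← Matrix.det_fin_two]
      exact (map_ne_zero φ.symm).2 (by rw [← coe_gdet]; exact (gdet L).ne_zero)

end Cfsg.Agent.G2Thompson
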